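import Groth.Agent.FlatMor.K264.Rfc.Fib
import Groth.Agent.FlatMor.K263.EtaRed
import Groth.Agent.S14900
import Groth.Agent.S0406
import Mathlib.RingTheory.Flat.TorsionFree

/-!
# Reduced fibre theorem over valuation rings with separably closed fraction field: affine case
-/

set_option autoImplicit false
universe u

open TensorProduct IsLocalRing

namespace K264.Rfc

section T1

variable {V : Type u} [CommRing V] [IsDomain V]

theorem flat_of_injective (L : Type u) [Field L] [Algebra V L] (hL : Function.Injective (algebraMap V L)) :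
    Module.Flat V L := by
  let f : FractionRing V →+* L := IsFractionRing.lift hL
  let _ : Algebra (FractionRing V) L := f.toAlgebra
  have : IsScalarTower V (FractionRing V) L := IsScalarTower.of_algebraMap_eq fun x =>
    (IsFractionRing.lift_algebraMap hL x).symm
  have h1 : Module.Flat V (FractionRing V) := IsLocalization.flat (FractionRing V) (nonZeroDivisors V)
  have h2 : Module.Flat (FractionRing V) L := inferInstance
  exact Module.Flat.trans V (FractionRing V) L

theorem bijective_lTensor (L : Type u) [Field L] [Algebra V L] (hL : Function.Injective (algebraMap V L))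
    {M N : Type u} [AddCommGroup M] [Module V M] [AddCommGroup N] [Module V N] (f : M →ₗ[V] N)
    (hker : ∀ m, f m = 0 → ∃ r : V, r ≠ 0 ∧ r • m = 0)
    (hcok : ∀ n, ∃ r : V, r ≠ 0 ∧ ∃ m, f m = r • n) : Function.Bijective (f.lTensor L) := by
  have hfl := flat_of_injective L hL
  have key : ∀ r : V, r ≠ 0 → algebraMap V L r ≠ 0 := fun r hr h => hr (hL (by rw [h, map_zero]))
  constructor
  · rw [injective_iff_map_eq_zero]
    intro x hx
    have h1 : Function.Exact (LinearMap.ker f).subtype f := by
      intro y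
      simp
    have h2 := Module.Flat.lTensor_exact (M := L) h1
    obtain ⟨y, rfl⟩ := (h2 x).1 hx
    have h3 : ∀ y : L ⊗[V] (LinearMap.ker f), y = 0 := by
      intro y
      induction y using TensorProduct.induction_on with
      | zero => rfl
      | tmul l k =>
        obtain ⟨r, hr, hrk⟩ := hker k.1 k.2
        have h4 : r • k = 0 := Subtype.ext hrk
        have h5 : l = r • ((algebraMap V L r)⁻¹ * l) := by
          rw [Algebra.smul_def, mul_inv_cancel_left₀ (key r hr)]
        rw [h5, TensorProduct.smul_tmul, h4, TensorProduct.tmul_zero]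
      | add a b ha hb => rw [ha, hb, add_zero]
    rw [h3 y, map_zero]
  · intro z
    induction z using TensorProduct.induction_on with
    | zero => exact ⟨0, map_zero _⟩
    | tmul l n =>
      obtain ⟨r, hr, m, hm⟩ := hcok n
      refine ⟨((algebraMap V L r)⁻¹ * l) ⊗ₜ m, ?_⟩
      rw [LinearMap.lTensor_tmul, hm, ← TensorProduct.smul_tmul, Algebra.smul_def, mul_inv_cancel_left₀ (key r hr)]
    | add a b ha hb =>
      obtain ⟨a', rfl⟩ := ha
      obtain ⟨b', rfl⟩ := hb
      exact ⟨a' + b', map_add _ _ _⟩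

theorem bijective_tensorMap (L : Type u) [Field L] [Algebra V L] (hL : Function.Injective (algebraMap V L))
    {M N : Type u} [CommRing M] [Algebra V M] [CommRing N] [Algebra V N] (f : M →ₐ[V] N)
    (hker : ∀ m, f m = 0 → ∃ r : V, r ≠ 0 ∧ r • m = 0)
    (hcok : ∀ n, ∃ r : V, r ≠ 0 ∧ ∃ m, f m = r • n) :
    Function.Bijective (Algebra.TensorProduct.map (AlgHom.id V L) f) :=
  bijective_lTensor L hL f.toLinearMap hker hcok

end T1

theorem flat_of_forall_ring (V : Type u) [CommRing V] [IsDomain V] [ValuationRing V] (M : Type u) [CommRing M] [Algebra V M]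
    (h : ∀ (r : V) (m : M), r ≠ 0 → r • m = 0 → m = 0) : Module.Flat V M := by
  rw [Module.Flat.flat_iff_torsion_eq_bot_of_isBezout, eq_bot_iff]
  rintro m ⟨⟨r, hr⟩, hm⟩
  exact h r m (nonZeroDivisors.ne_zero hr) hm

theorem flat_of_forall (V : Type u) [CommRing V] [IsDomain V] [ValuationRing V] (M : Type u) [AddCommGroup M] [Module V M]
    (h : ∀ (r : V) (m : M), r ≠ 0 → r • m = 0 → m = 0) : Module.Flat V M := by
  rw [Module.Flat.flat_iff_torsion_eq_bot_of_isBezout, eq_bot_iff]
  rintro m ⟨⟨r, hr⟩, hm⟩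
  exact h r m (nonZeroDivisors.ne_zero hr) hm

theorem exists_torsionfree (V : Type u) [CommRing V] [IsDomain V] (C : Type u) [CommRing C] [Algebra V C] :
    ∃ (A : Type u) (_ : CommRing A) (_ : Algebra V A) (p : C →ₐ[V] A), Function.Surjective p ∧
      (∀ m, p m = 0 → ∃ r : V, r ≠ 0 ∧ r • m = 0) ∧ (∀ (r : V) (m : A), r ≠ 0 → r • m = 0 → m = 0) := by
  let I : Ideal C :=
    { carrier := {m | ∃ r : V, r ≠ 0 ∧ r • m = 0}
      add_mem' := by
        rintro a b ⟨r, hr, ha⟩ ⟨s, hs, hb⟩
        refine ⟨r * s, mul_ne_zero hr hs, ?_⟩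
        rw [smul_add, mul_smul r s b, hb, smul_zero, mul_comm, mul_smul, ha, smul_zero, add_zero]
      zero_mem' := ⟨1, one_ne_zero, smul_zero _⟩
      smul_mem' := by
        rintro c a ⟨r, hr, ha⟩
        exact ⟨r, hr, by rw [smul_comm, ha, smul_zero]⟩ }
  refine ⟨C ⧸ I, inferInstance, inferInstance, Ideal.Quotient.mkₐ V I, Ideal.Quotient.mkₐ_surjective V I, ?_, ?_⟩
  · intro m hm
    exact Ideal.Quotient.eq_zero_iff_mem.1 hm
  · intro r m hr hm
    obtain ⟨m, rfl⟩ := Ideal.Quotient.mkₐ_surjective V I m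
    rw [← map_smul] at hm
    obtain ⟨s, hs, hm'⟩ := Ideal.Quotient.eq_zero_iff_mem.1 hm
    refine Ideal.Quotient.eq_zero_iff_mem.2 ⟨s * r, mul_ne_zero hs hr, ?_⟩
    rw [mul_smul]
    exact hm'

section IC

variable (V : Type u) [CommRing V] [IsDomain V] (A : Type u) [CommRing A] [Algebra V A]
  (B : Type u) [CommRing B] [Algebra V B] [Algebra A B] [IsScalarTower V A B]
  [IsLocalization (Algebra.algebraMapSubmonoid A (nonZeroDivisors V)) B]

include A in
theorem isUnit_of_ne {r : V} (hr : r ≠ 0) : IsUnit (algebraMap V B r) := by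
  have h1 : IsUnit (algebraMap A B (algebraMap V A r)) :=
    IsLocalization.map_units (M := Algebra.algebraMapSubmonoid A (nonZeroDivisors V)) B
      ⟨_, r, mem_nonZeroDivisors_of_ne_zero hr, rfl⟩
  rwa [← IsScalarTower.algebraMap_apply] at h1

theorem ic_torsionfree (r : V) (m : integralClosure A B) (hr : r ≠ 0) (h : r • m = 0) : m = 0 := by
  refine Subtype.ext ?_
  have h1 : r • (m : B) = 0 := congrArg Subtype.val h
  rw [Algebra.smul_def] at h1
  exact ((isUnit_of_ne V A B hr).mul_right_eq_zero).1 h1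

theorem ic_injective (hA : ∀ (r : V) (m : A), r ≠ 0 → r • m = 0 → m = 0) (a : A)
    (ha : algebraMap A (integralClosure A B) a = 0) : a = 0 := by
  have h1 : algebraMap A B a = 0 := congrArg Subtype.val ha
  obtain ⟨⟨_, r, hr, rfl⟩, h2⟩ := (IsLocalization.map_eq_zero_iff
    (Algebra.algebraMapSubmonoid A (nonZeroDivisors V)) B a).1 h1
  exact hA r a (nonZeroDivisors.ne_zero hr) (by rw [Algebra.smul_def]; exact h2)

theorem ic_cok (n : integralClosure A B) : ∃ r : V, r ≠ 0 ∧ ∃ a : A, algebraMap A (integralClosure A B) a = r • n := by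
  obtain ⟨⟨a, ⟨_, r, hr, rfl⟩⟩, h1⟩ := IsLocalization.surj
    (Algebra.algebraMapSubmonoid A (nonZeroDivisors V)) (n : B)
  refine ⟨r, nonZeroDivisors.ne_zero hr, a, Subtype.ext ?_⟩
  change algebraMap A B a = r • (n : B)
  rw [← h1, Algebra.smul_def, mul_comm, IsScalarTower.algebraMap_apply V A B]

theorem ic_hic (c : V) (a b : integralClosure A B) (hc : c ≠ 0)
    (hab : a ^ 2 = algebraMap V (integralClosure A B) c ^ 2 * b) :
    ∃ e, a = algebraMap V (integralClosure A B) c * e := by
  obtain ⟨u, hu⟩ := isUnit_of_ne V A B hc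
  have h2 : (a : B) ^ 2 = (u : B) ^ 2 * b := by
    rw [hu]; exact congrArg Subtype.val hab
  have h3 : ((↑u⁻¹ : B) * a) ^ 2 = b := by
    rw [mul_pow, h2, ← mul_assoc, ← mul_pow, Units.inv_mul, one_pow, one_mul]
  have h4 : ((↑u⁻¹ : B) * a) ∈ integralClosure A B := by
    rw [mem_integralClosure_iff]
    refine IsIntegral.of_pow two_pos ?_
    rw [h3]
    exact b.2
  refine ⟨⟨_, h4⟩, Subtype.ext ?_⟩
  change (a : B) = algebraMap V B c * ((↑u⁻¹ : B) * a)
  rw [← hu, Units.mul_inv_cancel_left]

end IC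

section

variable (V : Type u) [CommRing V] [IsDomain V] [ValuationRing V] [Finite (PrimeSpectrum V)]
    [IsSepClosed (FractionRing V)]

theorem exists_etaRed_alg_aux0 (A : Type u) [CommRing A] [Algebra V A] [Algebra.FiniteType V A]
    (hred : ∀ (E : Type u) [Field E] [Algebra V E], Function.Injective (algebraMap V E) →
      IsReduced (E ⊗[V] A)) (E : Type u) [CommRing E] [Algebra V E] [Algebra A E] [IsScalarTower V A E]
    (hft : Algebra.FiniteType V E) (hint : Algebra.IsIntegral A E)
    (hEtf : ∀ (r : V) (m : E), r ≠ 0 → r • m = 0 → m = 0) (hEred : IsReduced E)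
    (hinj : ∀ a : A, algebraMap A E a = 0 → a = 0)
    (hcok : ∀ n : E, ∃ r : V, r ≠ 0 ∧ ∃ a : A, algebraMap A E a = r • n)
    (hic : ∀ (c : V) (a b : E), c ≠ 0 → a ^ 2 = algebraMap V E c ^ 2 * b → ∃ e, a = algebraMap V E c * e) :
    ∃ (f : A →ₐ[V] E),
      f.toRingHom.Finite ∧ Module.Flat V E ∧ Algebra.FinitePresentation V E ∧
      (∀ m, f m = 0 → m = 0) ∧
      (∀ n, ∃ r : V, r ≠ 0 ∧ ∃ m, f m = r • n) ∧
      ∀ (F : Type u) [Field F] [Algebra V F], IsReduced (F ⊗[V] E) := by
  have hEfin : Module.Finite A E := by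
    have h1 : Algebra.FiniteType A E :=
      Algebra.FiniteType.of_restrictScalars_finiteType V A _
    exact Algebra.finite_iff_isIntegral_and_finiteType.2 ⟨inferInstance, h1⟩
  have hEfl : Module.Flat V E := flat_of_forall V E hEtf
  have hEfp : Algebra.FinitePresentation V E := Groth.Agent.S0406.result
  refine ⟨IsScalarTower.toAlgHom V A E, ?_, hEfl, hEfp, hinj, hcok, ?_⟩
  · change (algebraMap A E).Finite
    rwa [RingHom.finite_algebraMap]
  · intro F _ _
    by_cases hF : Function.Injective (algebraMap V F)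
    · have h1 := hred F hF
      have h2 := bijective_tensorMap F hF (IsScalarTower.toAlgHom V A E)
        (fun m hm => ⟨1, one_ne_zero, by rw [hinj m hm, smul_zero]⟩) hcok
      let e := AlgEquiv.ofBijective _ h2
      exact isReduced_of_injective e.symm e.symm.injective
    · exact isReduced_tensor_of_not_injective
        (fun c hc => K442.Vals.exists_associated_pow two_ne_zero hc) hic F hF

theorem exists_etaRed_alg_aux (A : Type u) [CommRing A] [Algebra V A] [Algebra.FiniteType V A]
    (hA : ∀ (r : V) (m : A), r ≠ 0 → r • m = 0 → m = 0)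
    (hred : ∀ (E : Type u) [Field E] [Algebra V E], Function.Injective (algebraMap V E) →
      IsReduced (E ⊗[V] A)) :
    ∃ (E : Type u) (_ : CommRing E) (_ : Algebra V E) (f : A →ₐ[V] E),
      f.toRingHom.Finite ∧ Module.Flat V E ∧ Algebra.FinitePresentation V E ∧
      (∀ m, f m = 0 → m = 0) ∧
      (∀ n, ∃ r : V, r ≠ 0 ∧ ∃ m, f m = r • n) ∧
      ∀ (F : Type u) [Field F] [Algebra V F], IsReduced (F ⊗[V] E) := by
  have hAfl : Module.Flat V A := flat_of_forall V A hA
  have hAfp : Algebra.FinitePresentation V A := Groth.Agent.S0406.result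
  obtain ⟨hEft, -⟩ := Groth.Agent.S14900.result V A hred
  refine ⟨integralClosure A (A ⊗[V] FractionRing V), inferInstance, inferInstance,
    exists_etaRed_alg_aux0 V A hred (integralClosure A (A ⊗[V] FractionRing V)) hEft inferInstance
      (ic_torsionfree V A (A ⊗[V] FractionRing V)) ?_ (ic_injective V A (A ⊗[V] FractionRing V) hA)
      (ic_cok V A (A ⊗[V] FractionRing V)) (ic_hic V A (A ⊗[V] FractionRing V))⟩
  have h1 := hred (FractionRing V) (IsFractionRing.injective V (FractionRing V))
  let e := Algebra.TensorProduct.comm V (FractionRing V) A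
  have h2 : IsReduced (A ⊗[V] FractionRing V) := isReduced_of_injective e.symm e.symm.injective
  exact isReduced_of_injective (integralClosure A (A ⊗[V] FractionRing V)).val Subtype.val_injective

theorem exists_etaRed_alg (C : Type u) [CommRing C] [Algebra V C] [Algebra.FiniteType V C]
    (hred : ∀ (E : Type u) [Field E] [Algebra V E], Function.Injective (algebraMap V E) →
      IsReduced (E ⊗[V] C)) :
    ∃ (E : Type u) (_ : CommRing E) (_ : Algebra V E) (f : C →ₐ[V] E),
      f.toRingHom.Finite ∧ Module.Flat V E ∧ Algebra.FinitePresentation V E ∧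
      (∀ m, f m = 0 → ∃ r : V, r ≠ 0 ∧ r • m = 0) ∧
      (∀ n, ∃ r : V, r ≠ 0 ∧ ∃ m, f m = r • n) ∧
      ∀ (F : Type u) [Field F] [Algebra V F], IsReduced (F ⊗[V] E) := by
  obtain ⟨A, _, _, p, hp, hpk, hA⟩ := exists_torsionfree V C
  have hAft : Algebra.FiniteType V A := Algebra.FiniteType.of_surjective p hp
  obtain ⟨E, _, _, f, h1, h2, h3, h4, h5, h6⟩ := exists_etaRed_alg_aux V A hA (by
    intro E _ _ hE
    have h1 := hred E hE
    have h2 := bijective_tensorMap E hE p hpk (fun n => by
      obtain ⟨m, rfl⟩ := hp n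
      exact ⟨1, one_ne_zero, m, by rw [one_smul]⟩)
    let e := AlgEquiv.ofBijective _ h2
    exact isReduced_of_injective e.symm e.symm.injective)
  refine ⟨E, inferInstance, inferInstance, f.comp p, ?_, h2, h3, ?_, ?_, h6⟩
  · exact RingHom.Finite.comp h1 (RingHom.Finite.of_surjective p.toRingHom hp)
  · intro m hm
    exact hpk m (h4 _ hm)
  · intro n
    obtain ⟨r, hr, a, ha⟩ := h5 n
    obtain ⟨m, rfl⟩ := hp a
    exact ⟨r, hr, m, ha⟩

end

end K264.Rfc
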