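import Groth.Agent.FlatMor.K264.Rfc.Aff
import Groth.Agent.Lefpen.H416.NormalBase

/-!
# Reduced fibre theorem over valuation rings with separably closed fraction field
-/

set_option autoImplicit false
universe u

open TensorProduct CategoryTheory Limits AlgebraicGeometry

namespace K264.Rfc

open K263.EtaRed

theorem range_SpecMap_field {V : Type u} [CommRing V] [IsDomain V] (E : Type u) [Field E] (i : V →+* E)
    (hi : Function.Injective i) :
    Set.range (Spec.map (CommRingCat.ofHom i)) = {genericPoint (Spec (CommRingCat.of V))} := by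
  have h1 : ∀ z : Spec (CommRingCat.of E), Spec.map (CommRingCat.ofHom i) z = genericPoint (Spec (CommRingCat.of V)) := by
    intro z
    rw [genericPoint_eq_bot_of_affine]
    have hz : z = (⊥ : PrimeSpectrum E) := Subsingleton.elim (α := PrimeSpectrum E) _ _
    subst hz
    refine PrimeSpectrum.ext ?_
    change Ideal.comap i ⊥ = ⊥
    exact Ideal.comap_bot_of_injective i hi
  ext x
  simp only [Set.mem_range, Set.mem_singleton_iff]
  constructor
  · rintro ⟨z, rfl⟩
    exact h1 z
  · rintro rfl
    exact ⟨(⊥ : PrimeSpectrum E), h1 _⟩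

theorem isReduced_tensor_iff {V C E : Type u} [CommRing V] [CommRing C] [Algebra V C] [Field E] [Algebra V E] :
    IsReduced (pullback (Spec.map (CommRingCat.ofHom (algebraMap V C))) (Spec.map (CommRingCat.ofHom (algebraMap V E))))
      ↔ _root_.IsReduced (E ⊗[V] C) := by
  constructor
  · intro h
    have h1 : IsReduced (Spec (CommRingCat.of (C ⊗[V] E))) :=
      isReduced_of_isOpenImmersion (pullbackSpecIso V C E).inv
    have h2 : _root_.IsReduced (C ⊗[V] E) := (affine_isReduced_iff (CommRingCat.of (C ⊗[V] E))).1 h1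
    exact isReduced_of_injective (Algebra.TensorProduct.comm V E C) (Algebra.TensorProduct.comm V E C).injective
  · intro h
    have h2 : _root_.IsReduced (C ⊗[V] E) :=
      isReduced_of_injective (Algebra.TensorProduct.comm V C E) (Algebra.TensorProduct.comm V C E).injective
    have h1 : IsReduced (Spec (CommRingCat.of (C ⊗[V] E))) := (affine_isReduced_iff (CommRingCat.of (C ⊗[V] E))).2 h2
    exact isReduced_of_isOpenImmersion (pullbackSpecIso V C E).hom

variable (V : Type u) [CommRing V] [IsDomain V]

theorem exists_stalk_factor (K : Type u) [Field K] [Algebra V K] [IsFractionRing V K] :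
    ∃ t : Spec ((Spec (CommRingCat.of V)).presheaf.stalk (genericPoint (Spec (CommRingCat.of V)))) ⟶ Spec (CommRingCat.of K),
      t ≫ Spec.map (CommRingCat.ofHom (algebraMap V K)) =
        (Spec (CommRingCat.of V)).fromSpecStalk (genericPoint (Spec (CommRingCat.of V))) := by
  set S := Spec (CommRingCat.of V) with hS
  let F := S.functionField
  let h : V →+* F := ((Scheme.ΓSpecIso (CommRingCat.of V)).inv ≫ S.presheaf.germ ⊤ (genericPoint S) trivial).hom
  have hinj : Function.Injective h := by
    have h1 : Function.Injective (S.presheaf.germ ⊤ (genericPoint S) trivial) :=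
      germ_injective_of_isIntegral S (genericPoint S) (U := ⊤) trivial
    have h2 : Function.Injective (Scheme.ΓSpecIso (CommRingCat.of V)).inv := by
      apply Function.LeftInverse.injective (g := (Scheme.ΓSpecIso (CommRingCat.of V)).hom)
      intro x
      exact congr($((Scheme.ΓSpecIso (CommRingCat.of V)).inv_hom_id) x)
    exact h1.comp h2
  refine ⟨Spec.map (CommRingCat.ofHom (IsFractionRing.lift hinj : K →+* F)), ?_⟩
  rw [← Spec.map_comp, Spec.fromSpecStalk_eq]
  congr 1
  ext x
  exact IsFractionRing.lift_algebraMap hinj x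

variable [ValuationRing V] [Finite (PrimeSpectrum V)] [IsSepClosed (FractionRing V)]

theorem etaRed_Spec_aux (C : Type u) [CommRing C] [Algebra V C] [Algebra.FiniteType V C]
    (hη : ∀ (K : Type u) [Field K] (k : Spec (CommRingCat.of K) ⟶ Spec (CommRingCat.of V)),
      Set.range k = {genericPoint (Spec (CommRingCat.of V))} →
        IsReduced (pullback (Spec.map (CommRingCat.ofHom (algebraMap V C))) k)) :
    EtaRed (Spec.map (CommRingCat.ofHom (algebraMap V C))) := by
  obtain ⟨E, _, _, f, h1, h2, h3, h4, h5, h6⟩ := exists_etaRed_alg V C (by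
    intro E _ _ hE
    exact isReduced_tensor_iff.1 (hη E (Spec.map (CommRingCat.ofHom (algebraMap V E))) (range_SpecMap_field E _ hE)))
  have hcomp : Spec.map (CommRingCat.ofHom f.toRingHom) ≫ Spec.map (CommRingCat.ofHom (algebraMap V C)) =
      Spec.map (CommRingCat.ofHom (algebraMap V E)) := by
    rw [← Spec.map_comp, ← CommRingCat.ofHom_comp]
    congr 2
    exact f.comp_algebraMap
  refine ⟨Spec (CommRingCat.of E), Spec.map (CommRingCat.ofHom f.toRingHom), ?_, ?_, ?_, ?_, ?_⟩
  · exact (IsFinite.SpecMap_iff (CommRingCat.ofHom f.toRingHom)).2 h1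
  · let K := FractionRing V
    have hb := bijective_tensorMap K (IsFractionRing.injective V K) f h4 h5
    obtain ⟨t, ht⟩ := exists_stalk_factor V K
    -- the pullback over `K`
    have HC : IsPullback (Spec.map (CommRingCat.ofHom (Algebra.TensorProduct.includeLeftRingHom : K →+* K ⊗[V] C)))
        (Spec.map (CommRingCat.ofHom (Algebra.TensorProduct.includeRight.toRingHom : C →+* K ⊗[V] C)))
        (Spec.map (CommRingCat.ofHom (algebraMap V K))) (Spec.map (CommRingCat.ofHom (algebraMap V C))) :=
      isPullback_SpecMap_of_isPushout _ _ _ _ (CommRingCat.isPushout_tensorProduct V K C)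
    have HE : IsPullback (Spec.map (CommRingCat.ofHom (Algebra.TensorProduct.includeLeftRingHom : K →+* K ⊗[V] E)))
        (Spec.map (CommRingCat.ofHom (Algebra.TensorProduct.includeRight.toRingHom : E →+* K ⊗[V] E)))
        (Spec.map (CommRingCat.ofHom (algebraMap V K))) (Spec.map (CommRingCat.ofHom (algebraMap V E))) :=
      isPullback_SpecMap_of_isPushout _ _ _ _ (CommRingCat.isPushout_tensorProduct V K E)
    let g : K ⊗[V] C →+* K ⊗[V] E := (Algebra.TensorProduct.map (AlgHom.id V K) f).toRingHom
    have hg : IsIso (Spec.map (CommRingCat.ofHom g)) := by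
      have : IsIso (CommRingCat.ofHom g) := by
        let e : K ⊗[V] C ≃+* K ⊗[V] E := RingEquiv.ofBijective g hb
        exact (inferInstance : IsIso e.toCommRingCatIso.hom)
      infer_instance
    have H : IsPullback (Spec.map (CommRingCat.ofHom (Algebra.TensorProduct.includeRight.toRingHom : E →+* K ⊗[V] E)))
        (Spec.map (CommRingCat.ofHom g)) (Spec.map (CommRingCat.ofHom f.toRingHom))
        (Spec.map (CommRingCat.ofHom (Algebra.TensorProduct.includeRight.toRingHom : C →+* K ⊗[V] C))) := by
      refine IsPullback.of_bot ?_ ?_ HC.flip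
      · rw [hcomp, ← Spec.map_comp, ← CommRingCat.ofHom_comp]
        have h7 : g.comp Algebra.TensorProduct.includeLeftRingHom = Algebra.TensorProduct.includeLeftRingHom := by
          ext x
          simp [g]
        rw [h7]
        exact HE.flip
      · rw [← Spec.map_comp, ← Spec.map_comp, ← CommRingCat.ofHom_comp, ← CommRingCat.ofHom_comp]
        congr 2
    have hiso : IsIso (pullback.snd (Spec.map (CommRingCat.ofHom f.toRingHom))
        (Spec.map (CommRingCat.ofHom (Algebra.TensorProduct.includeRight.toRingHom : C →+* K ⊗[V] C)))) := by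
      rw [← H.isoPullback_inv_snd]
      infer_instance
    refine isIso_snd_of_factor _ _ _ (HC.lift (pullback.snd _ _ ≫ t) (pullback.fst _ _) ?_) (HC.lift_snd _ _ _) hiso
    rw [Category.assoc, ht, pullback.condition]
  · rw [hcomp, Flat.SpecMap_iff]
    rwa [CommRingCat.hom_ofHom, RingHom.flat_algebraMap_iff]
  · rw [hcomp, HasRingHomProperty.Spec_iff (P := @LocallyOfFinitePresentation)]
    rwa [CommRingCat.hom_ofHom, RingHom.finitePresentation_algebraMap]
  · intro K _ k
    obtain ⟨κ, rfl⟩ := Spec.map_surjective k
    let _ : Algebra V K := κ.hom.toAlgebra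
    have h8 := (isReduced_tensor_iff (V := V) (C := E) (E := K)).2 (h6 K)
    exact isReduced_of_isOpenImmersion (pullback.congrHom hcomp
      (rfl : Spec.map κ = Spec.map (CommRingCat.ofHom (algebraMap V K)))).hom

theorem isReduced_precomp {X Y S T : Scheme.{u}} (t : Y ⟶ X) [IsOpenImmersion t] (φ : X ⟶ S) (k : T ⟶ S)
    (h : IsReduced (pullback φ k)) : IsReduced (pullback (t ≫ φ) k) := by
  have h1 := (IsPullback.of_hasPullback t (pullback.fst φ k)).paste_vert (IsPullback.of_hasPullback φ k)
  have h2 : IsReduced (pullback t (pullback.fst φ k)) :=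
    isReduced_of_isOpenImmersion (pullback.snd t (pullback.fst φ k))
  exact isReduced_of_isOpenImmersion h1.isoPullback.inv

theorem etaRed_Spec {X : Scheme.{u}} (φ : X ⟶ Spec (CommRingCat.of V)) [LocallyOfFiniteType φ]
    (hη : ∀ (K : Type u) [Field K] (k : Spec (CommRingCat.of K) ⟶ Spec (CommRingCat.of V)),
      Set.range k = {genericPoint (Spec (CommRingCat.of V))} → IsReduced (pullback φ k)) :
    EtaRed φ := by
  refine of_cover (Groth.Agent.Lefpen.H416.NormalBase.isNormalScheme_spec V) φ (fun U : X.affineOpens => U.1)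
    (iSup_affineOpens_eq_top X) fun U => ?_
  obtain ⟨κ, hκ⟩ := Spec.map_surjective (U.2.fromSpec ≫ φ)
  have hft : LocallyOfFiniteType (Spec.map κ) := by rw [hκ]; infer_instance
  rw [HasRingHomProperty.Spec_iff (P := @LocallyOfFiniteType)] at hft
  have h1 : ∀ (K : Type u) [Field K] (k : Spec (CommRingCat.of K) ⟶ Spec (CommRingCat.of V)),
      Set.range k = {genericPoint (Spec (CommRingCat.of V))} → IsReduced (pullback (Spec.map κ) k) := by
    intro K _ k hk
    rw [hκ]
    exact isReduced_precomp _ φ k (hη K k hk)
  have h2 : EtaRed (U.2.fromSpec ≫ φ) := by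
    rw [← hκ]
    algebraize [κ.hom]
    exact etaRed_Spec_aux V _ h1
  have h3 := precomp (U.2.fromSpec ≫ φ) U.2.isoSpec.hom h2
  rwa [← Category.assoc, U.2.isoSpec_hom_fromSpec] at h3

end K264.Rfc
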