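import Groth.Agent.FlatMor.K263.IsoDescend
import Groth.Agent.Variety.K425.GenEtale
import Groth.Agent.CycB.PushLocal
import Groth.Prelude.Def_Curv2
import Groth.Agent.Etcore.SmoothRed

/-!
# Generically étale alterations

* `restrict_of_closed`: closed maps and neighbourhoods of fibres;
* `GenEtAlt.pull`: a generically étale alteration of `S₀` pulls back along a dominant morphism.
-/

set_option autoImplicit false
universe u

open CategoryTheory AlgebraicGeometry Limits TopologicalSpace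

namespace K264.Rfc

/-- Generically étale alterations. -/
def GenEtAlt {S' S : Scheme.{u}} (g : S' ⟶ S) : Prop :=
  Curv2.IsAlteration g ∧ ∃ V : S.Opens, (V : Set S).Nonempty ∧ Etale (g ∣_ V)

theorem exists_nhd_of_isClosedMap {X Y : Scheme.{u}} (f : X ⟶ Y) [UniversallyClosed f] (U : X.Opens) (y : Y)
    (h : ∀ x, f x = y → x ∈ U) : ∃ V : Y.Opens, y ∈ V ∧ f ⁻¹ᵁ V ≤ U := by
  have hcl : IsClosed (f '' (U : Set X)ᶜ) := f.isClosedMap _ U.isOpen.isClosed_compl
  refine ⟨⟨(f '' (U : Set X)ᶜ)ᶜ, hcl.isOpen_compl⟩, ?_, ?_⟩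
  · rintro ⟨x, hx, rfl⟩
    exact hx (h x rfl)
  · intro x hx
    by_contra hxU
    exact hx ⟨x, hxU, rfl⟩

theorem etale_restrict {X Y : Scheme.{u}} (f : X ⟶ Y) (U : X.Opens) (V : Y.Opens) (h : f ⁻¹ᵁ V ≤ U)
    [Etale (U.ι ≫ f)] : Etale (f ∣_ V) := by
  have h1 : Etale (f ∣_ V ≫ V.ι) := by
    rw [morphismRestrict_ι]
    have : (f ⁻¹ᵁ V).ι ≫ f = X.homOfLE h ≫ U.ι ≫ f := by
      rw [Scheme.homOfLE_ι_assoc]
    rw [this]
    exact MorphismProperty.comp_mem @Etale _ _ inferInstance inferInstance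
  exact Etale.of_comp _ V.ι

theorem etale_restrict_of_le {X Y : Scheme.{u}} (f : X ⟶ Y) {V V' : Y.Opens} (h : V' ≤ V)
    (hf : Etale (f ∣_ V)) : Etale (f ∣_ V') := by
  have : Etale ((f ⁻¹ᵁ V).ι ≫ f) := by
    rw [← morphismRestrict_ι]
    exact MorphismProperty.comp_mem @Etale _ _ hf inferInstance
  exact etale_restrict f (f ⁻¹ᵁ V) V' (fun x hx => h hx)

theorem isFinite_restrict_of_le {X Y : Scheme.{u}} (f : X ⟶ Y) {V V' : Y.Opens} (h : V' ≤ V)
    (hf : IsFinite (f ∣_ V)) : IsFinite (f ∣_ V') := by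
  have e : V.ι ''ᵁ (V.ι ⁻¹ᵁ V') = V' := by
    rw [Scheme.Hom.image_preimage_eq_opensRange_inf, Scheme.Opens.opensRange_ι]
    exact inf_eq_right.2 h
  have h1 : IsFinite (f ∣_ V ∣_ (V.ι ⁻¹ᵁ V')) := inferInstance
  have h2 := (MorphismProperty.arrow_mk_iso_iff (@IsFinite) (morphismRestrictRestrict f V (V.ι ⁻¹ᵁ V'))).1 h1
  rwa [e] at h2

theorem surjective_of_isAlteration {S' S : Scheme.{u}} (g : S' ⟶ S) (h : Curv2.IsAlteration g) : Surjective g := by
  obtain ⟨h1, h2, h3, h4, -⟩ := h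
  refine ⟨fun y => ?_⟩
  have hcl : IsClosed (Set.range g) := g.isClosedMap.isClosed_range
  have hd : closure (Set.range g) = Set.univ := (Scheme.Hom.denseRange g).closure_range
  have : Set.range g = Set.univ := by rw [← hcl.closure_eq, hd]
  have hy : y ∈ Set.range g := by rw [this]; trivial
  exact hy

/-- The closure of a point as an integral closed subscheme. -/
theorem exists_closure (P : Scheme.{u}) (p : P) : ∃ (Z : Scheme.{u}) (_ : IsIntegral Z) (i : Z ⟶ P),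
    IsClosedImmersion i ∧ Set.range i = closure {p} ∧ i (genericPoint Z) = p := by
  let r := P.fromSpecResidueField p
  have hqc : QuasiCompact r := inferInstance
  have hdom : IsSchemeTheoreticallyDominant r.toImage := inferInstance
  have hint : IsIntegral r.image := K263.IsoDescend.isIntegral_of_dominant r.toImage
  refine ⟨r.image, hint, r.imageι, inferInstance, ?_, ?_⟩
  · have h1 : Set.range r.imageι = (r.ker.support : Set P) := Scheme.IdealSheafData.range_subschemeι _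
    rw [h1, Scheme.Hom.support_ker, Scheme.range_fromSpecResidueField]
  · rw [← K263.IsoDescend.apply_genericPoint_of_dominant r.toImage, ← Scheme.Hom.comp_apply,
      Scheme.Hom.toImage_imageι]
    have : r (genericPoint (Spec (P.residueField p))) ∈ Set.range r := ⟨_, rfl⟩
    rw [Scheme.range_fromSpecResidueField] at this
    exact this

theorem fibre_discrete {X Y : Scheme.{u}} (f : X ⟶ Y) (V : Y.Opens) [IsFinite (f ∣_ V)] {q q' : X}
    (h : q ⤳ q') (e : f q = f q') (hV : f q ∈ V) : q = q' := by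
  have hq : q ∈ f ⁻¹ᵁ V := hV
  have hq' : q' ∈ f ⁻¹ᵁ V := by
    show f q' ∈ V
    rw [← e]; exact hV
  have h1 : (⟨q, hq⟩ : (f ⁻¹ᵁ V).toScheme) ⤳ ⟨q', hq'⟩ :=
    (f ⁻¹ᵁ V).ι.isOpenEmbedding.isInducing.specializes_iff.mp h
  have hd := (f ∣_ V).isDiscrete_preimage_singleton ((f ∣_ V) ⟨q, hq⟩)
  have e1 : (f ∣_ V) ⟨q', hq'⟩ = (f ∣_ V) ⟨q, hq⟩ := by
    apply V.ι.isOpenEmbedding.injective
    rw [← Scheme.Hom.comp_apply, ← Scheme.Hom.comp_apply, morphismRestrict_ι, Scheme.Hom.comp_apply,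
      Scheme.Hom.comp_apply]
    exact e.symm
  have hd' : DiscreteTopology ↥((f ∣_ V) ⁻¹' {(f ∣_ V) ⟨q, hq⟩}) := hd.to_subtype
  have h2 : (⟨⟨q, hq⟩, rfl⟩ : ↥((f ∣_ V) ⁻¹' {(f ∣_ V) ⟨q, hq⟩})) ⤳ ⟨⟨q', hq'⟩, e1⟩ :=
    Topology.IsInducing.subtypeVal.specializes_iff.mp h1
  have h3 := h2.eq
  exact congrArg (fun z => (z.1.1 : X)) h3

theorem finite_fibre {X Y : Scheme.{u}} (f : X ⟶ Y) (V : Y.Opens) [IsFinite (f ∣_ V)] (y : Y) (hV : y ∈ V) :
    {q : X | f q = y}.Finite := by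
  have h := (f ∣_ V).finite_preimage_singleton ⟨y, hV⟩
  refine (h.image (f ⁻¹ᵁ V).ι).subset ?_
  intro q hq
  have hqV : q ∈ f ⁻¹ᵁ V := by
    show f q ∈ V
    rw [show f q = y from hq]; exact hV
  refine ⟨⟨q, hqV⟩, ?_, rfl⟩
  show (f ∣_ V) ⟨q, hqV⟩ = ⟨y, hV⟩
  apply V.ι.isOpenEmbedding.injective
  rw [← Scheme.Hom.comp_apply, morphismRestrict_ι, Scheme.Hom.comp_apply]
  exact hq

/-- Components of a finite étale morphism over an integral base are open near their generic point. -/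
theorem exists_open_component {P S : Scheme.{u}} [IsIntegral S] (b : P ⟶ S) (V : S.Opens)
    (hη : genericPoint S ∈ V) [IsFinite (b ∣_ V)] [Etale (b ∣_ V)] (p : P) (hp : b p = genericPoint S)
    {Z : Scheme.{u}} (i : Z ⟶ P) [IsClosedImmersion i] (hi : Set.range i = closure {p}) :
    ∃ U : P.Opens, p ∈ U ∧ U ≤ b ⁻¹ᵁ V ∧ IsIso (i ∣_ U) := by
  classical
  have hfin : {q : P | b q = genericPoint S}.Finite := finite_fibre b V _ hη
  let T : Set P := ⋃ q ∈ {q : P | b q = genericPoint S} \ {p}, closure {q}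
  have hT : IsClosed T := (hfin.subset Set.sdiff_subset).isClosed_biUnion fun _ _ => isClosed_closure
  let U : P.Opens := b ⁻¹ᵁ V ⊓ ⟨Tᶜ, hT.isOpen_compl⟩
  have hpU : p ∈ U := by
    refine ⟨?_, ?_⟩
    · show b p ∈ V
      rw [hp]; exact hη
    · intro hpT
      simp only [T, Set.mem_iUnion] at hpT
      obtain ⟨q, hq, hqp⟩ := hpT
      have hsp : q ⤳ p := specializes_iff_mem_closure.mpr hqp
      apply hq.2
      refine fibre_discrete b V hsp ?_ ?_
      · rw [hp]; exact hq.1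
      · rw [show b q = _ from hq.1]; exact hη
  have hUp : ∀ x ∈ U, p ⤳ x := by
    intro x hx
    have hxV : x ∈ b ⁻¹ᵁ V := hx.1
    have hgen := Flat.generalizingMap (b ∣_ V)
    have h1 : (⟨genericPoint S, hη⟩ : V.toScheme) ⤳ (b ∣_ V) (⟨x, hxV⟩ : (b ⁻¹ᵁ V).toScheme) :=
      V.ι.isOpenEmbedding.isInducing.specializes_iff.mp (genericPoint_specializes _)
    obtain ⟨y, hyx, hy⟩ := hgen h1
    have hyb : b ((b ⁻¹ᵁ V).ι y) = genericPoint S := by
      rw [← Scheme.Hom.comp_apply, ← morphismRestrict_ι, Scheme.Hom.comp_apply, hy]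
      rfl
    have hyx' : (b ⁻¹ᵁ V).ι y ⤳ x := (b ⁻¹ᵁ V).ι.isOpenEmbedding.isInducing.specializes_iff.mpr hyx
    by_cases hyp : (b ⁻¹ᵁ V).ι y = p
    · rw [← hyp]; exact hyx'
    · exfalso
      apply hx.2
      simp only [T, Set.mem_iUnion]
      exact ⟨_, ⟨hyb, hyp⟩, hyx'.mem_closure⟩
  refine ⟨U, hpU, inf_le_left, ?_⟩
  have hredU : IsReduced U.toScheme := by
    have hUV : U ≤ b ⁻¹ᵁ V := inf_le_left
    have h0 : Etale (P.homOfLE hUV ≫ b ∣_ V) :=
      MorphismProperty.comp_mem @Etale _ _ inferInstance inferInstance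
    exact Groth.Agent.Etcore.SmoothRed.isReduced_of_smooth (P.homOfLE hUV ≫ b ∣_ V)
  have hsurj : Surjective (i ∣_ U) := by
    refine ⟨fun x => ?_⟩
    have h1 : (U.ι x : P) ∈ Set.range i := by
      rw [hi]
      exact (hUp _ x.2).mem_closure
    obtain ⟨z, hz⟩ := h1
    have hzU : z ∈ i ⁻¹ᵁ U := by
      show i z ∈ U
      rw [hz]; exact x.2
    refine ⟨⟨z, hzU⟩, ?_⟩
    apply U.ι.isOpenEmbedding.injective
    rw [← Scheme.Hom.comp_apply, morphismRestrict_ι, Scheme.Hom.comp_apply]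
    exact hz
  exact isIso_of_isClosedImmersion_of_surjective _

theorem isDominant_of_mem {X Y : Scheme.{u}} [IsIntegral Y] (f : X ⟶ Y) (x : X) (hx : f x = genericPoint Y) :
    IsDominant f := by
  refine ⟨?_⟩
  rw [DenseRange, dense_iff_closure_eq]
  have : genericPoint Y ∈ Set.range f := ⟨_, hx⟩
  apply Set.eq_univ_of_univ_subset
  rw [← genericPoint_closure]
  exact closure_mono (Set.singleton_subset_iff.mpr this)

theorem apply_genericPoint {X Y : Scheme.{u}} [IsIntegral X] [IsIntegral Y] (f : X ⟶ Y) [IsDominant f] :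
    f (genericPoint X) = genericPoint Y := by
  have hd : closure (Set.range f) = Set.univ := (Scheme.Hom.denseRange f).closure_range
  have h1 := ((genericPoint_spec X).image f.continuous)
  rw [Set.image_univ, hd] at h1
  exact h1.eq (genericPoint_spec Y)

theorem restrict_isPullback {S S₀ S₀' P : Scheme.{u}} {a : P ⟶ S₀'} {b : P ⟶ S} {g₀ : S₀' ⟶ S₀} {u : S ⟶ S₀}
    (sq : IsPullback a b g₀ u) (V : S₀.Opens) :
    ∃ c : (b ⁻¹ᵁ (u ⁻¹ᵁ V)).toScheme ⟶ (g₀ ⁻¹ᵁ V).toScheme, IsPullback c (b ∣_ (u ⁻¹ᵁ V)) (g₀ ∣_ V) (u ∣_ V) := by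
  have h1 := (isPullback_morphismRestrict b (u ⁻¹ᵁ V)).flip
  have h2 := (isPullback_morphismRestrict g₀ V).flip
  have h3 : IsPullback ((b ⁻¹ᵁ (u ⁻¹ᵁ V)).ι ≫ a) (b ∣_ (u ⁻¹ᵁ V)) g₀ ((u ∣_ V) ≫ V.ι) := by
    rw [morphismRestrict_ι]
    exact h1.paste_horiz sq
  refine ⟨h2.lift ((b ⁻¹ᵁ (u ⁻¹ᵁ V)).ι ≫ a) ((b ∣_ (u ⁻¹ᵁ V)) ≫ (u ∣_ V)) (by
    rw [Category.assoc]; exact h3.w), ?_⟩
  refine IsPullback.of_right (h₁₂ := (g₀ ⁻¹ᵁ V).ι) (h₂₂ := V.ι) (v₁₃ := g₀) ?_ ?_ h2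
  · rw [h2.lift_fst]; exact h3
  · rw [h2.lift_snd]

theorem GenEtAlt.pull {S S₀ S₀' : Scheme.{u}} [IsIntegral S] (u : S ⟶ S₀) [IsDominant u] (g₀ : S₀' ⟶ S₀)
    (h : GenEtAlt g₀) : ∃ (S' : Scheme.{u}) (_ : IsIntegral S') (g : S' ⟶ S) (u' : S' ⟶ S₀'),
      GenEtAlt g ∧ IsDominant u' ∧ u' ≫ g₀ = g ≫ u := by
  have hsurj := surjective_of_isAlteration g₀ h.1
  obtain ⟨⟨hp₀, hi₀', hi₀, hd₀, V₁, hV₁, hfin⟩, V₂, hV₂, het⟩ := h
  let V : S₀.Opens := V₁ ⊓ V₂
  have hηV₁ : genericPoint S₀ ∈ V₁ := (genericPoint_spec S₀).mem_open_set_iff V₁.isOpen |>.mpr (by simpa using hV₁)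
  have hηV₂ : genericPoint S₀ ∈ V₂ := (genericPoint_spec S₀).mem_open_set_iff V₂.isOpen |>.mpr (by simpa using hV₂)
  have hηV : genericPoint S₀ ∈ V := ⟨hηV₁, hηV₂⟩
  have hfinV : IsFinite (g₀ ∣_ V) := isFinite_restrict_of_le g₀ inf_le_left hfin
  have hetV : Etale (g₀ ∣_ V) := etale_restrict_of_le g₀ inf_le_right het
  have huη : u (genericPoint S) = genericPoint S₀ := apply_genericPoint u
  let P := pullback g₀ u
  let a : P ⟶ S₀' := pullback.fst g₀ u
  let b : P ⟶ S := pullback.snd g₀ u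
  have sq : IsPullback a b g₀ u := IsPullback.of_hasPullback _ _
  have hbp : IsProper b := inferInstance
  have hbs : Surjective b := inferInstance
  obtain ⟨p, hp⟩ := hbs.surj (genericPoint S)
  obtain ⟨S', hS', i, hi, hir, hig⟩ := exists_closure P p
  let W : S.Opens := u ⁻¹ᵁ V
  have hηW : genericPoint S ∈ W := by
    show u (genericPoint S) ∈ V
    rw [huη]; exact hηV
  obtain ⟨c, sqc⟩ := restrict_isPullback sq V
  have hbf : IsFinite (b ∣_ W) := MorphismProperty.of_isPullback sqc inferInstance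
  have hbe : Etale (b ∣_ W) := MorphismProperty.of_isPullback sqc inferInstance
  obtain ⟨U, hpU, hUW, hiU⟩ := exists_open_component b W hηW p hp i hir
  let g : S' ⟶ S := i ≫ b
  have hgη : g (genericPoint S') = genericPoint S := by
    show (i ≫ b) (genericPoint S') = _
    rw [Scheme.Hom.comp_apply, hig, hp]
  have hgd : IsDominant g := isDominant_of_mem g _ hgη
  have hgf : IsFinite (g ∣_ W) := by
    have e : g ∣_ W = (i ∣_ (b ⁻¹ᵁ W)) ≫ (b ∣_ W) := morphismRestrict_comp i b W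
    have hiW : IsClosedImmersion (i ∣_ (b ⁻¹ᵁ W)) := inferInstance
    have hiW' : IsFinite (i ∣_ (b ⁻¹ᵁ W)) := inferInstance
    rw [e]
    exact MorphismProperty.comp_mem @IsFinite _ _ hiW' hbf
  obtain ⟨V', hηV', hV'⟩ := exists_nhd_of_isClosedMap g (i ⁻¹ᵁ U) (genericPoint S) (by
    intro x hx
    show i x ∈ U
    have h1 : i x ∈ closure {p} := by rw [← hir]; exact ⟨x, rfl⟩
    have h2 : p = i x := by
      refine fibre_discrete b W (specializes_iff_mem_closure.mpr h1) ?_ ?_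
      · rw [hp, ← Scheme.Hom.comp_apply]; exact hx.symm
      · rw [hp]; exact hηW
    rw [← h2]; exact hpU)
  have hget : Etale ((i ⁻¹ᵁ U).ι ≫ g) := by
    have e : (i ⁻¹ᵁ U).ι ≫ g = (i ∣_ U) ≫ P.homOfLE hUW ≫ (b ∣_ W) ≫ W.ι := by
      rw [morphismRestrict_ι, Scheme.homOfLE_ι_assoc, morphismRestrict_ι_assoc]
    rw [e]
    have h1 : Etale (P.homOfLE hUW ≫ (b ∣_ W) ≫ W.ι) :=
      MorphismProperty.comp_mem @Etale _ _ inferInstance (MorphismProperty.comp_mem @Etale _ _ hbe inferInstance)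
    exact MorphismProperty.comp_mem @Etale _ _ inferInstance h1
  have hge : Etale (g ∣_ V') := etale_restrict g (i ⁻¹ᵁ U) V' hV'
  refine ⟨S', hS', g, i ≫ a, ⟨⟨inferInstance, hS', inferInstance, hgd, W, ⟨_, hηW⟩, hgf⟩, V', ⟨_, hηV'⟩, hge⟩, ?_, ?_⟩
  · -- the generic point of `S'` maps to the generic point of `S₀'`
    have h1 : g₀ ((i ≫ a) (genericPoint S')) = genericPoint S₀ := by
      rw [← Scheme.Hom.comp_apply, Category.assoc, sq.w, ← Category.assoc, Scheme.Hom.comp_apply]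
      show u (g (genericPoint S')) = _
      rw [hgη, huη]
    have h2 : g₀ (genericPoint S₀') = genericPoint S₀ := apply_genericPoint g₀
    have h3 : genericPoint S₀' = (i ≫ a) (genericPoint S') := by
      refine fibre_discrete g₀ V (genericPoint_specializes _) ?_ ?_
      · rw [h1, h2]
      · rw [h2]; exact hηV
    exact isDominant_of_mem _ _ h3.symm
  · show (i ≫ a) ≫ g₀ = (i ≫ b) ≫ u
    rw [Category.assoc, Category.assoc, sq.w]

end K264.Rfc
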