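import Groth.Agent.FlatMor.K264.Rfc.Alt
import Groth.Agent.Unram.K147.LQF

/-!
# Proper morphisms with separable algebraic extension of function fields are generically étale alterations
-/

set_option autoImplicit false
universe u

open CategoryTheory AlgebraicGeometry Limits TopologicalSpace

namespace K264.Rfc

theorem isField_of_map {k B : Type u} [CommRing k] [CommRing B] [IsDomain B] (hk : IsField k) (f : k →+* B)
    (h : ∀ b : B, letI := f.toAlgebra; IsAlgebraic k b) : IsField B := by
  letI := f.toAlgebra
  letI : Field k := hk.toField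
  have : Algebra.IsAlgebraic k B := ⟨fun b => h b⟩
  have : Algebra.IsIntegral k B := Algebra.isAlgebraic_iff_isIntegral.mp this
  exact isField_of_isIntegral_of_isField' hk

/-- In a scheme of finite type... a point over the generic point, when the extension of function fields is
algebraic, is the generic point. -/
theorem eq_genericPoint {S S' : Scheme.{u}} [IsIntegral S] [IsIntegral S'] (q : S' ⟶ S)
    (e : q (genericPoint S') = genericPoint S)
    (h : @Algebra.IsAlgebraic S.functionField S'.functionField _ _ (K425.GenEtale.ffMap q e).toAlgebra)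
    (x : S') (hx : q x = genericPoint S) : x = genericPoint S' := by
  -- the local ring at `x` is algebraic over the function field of `S`
  let σ : S.functionField →+* S'.presheaf.stalk x :=
    (S.presheaf.stalkSpecializes (specializes_of_eq hx) ≫ q.stalkMap x).hom
  have hsp : genericPoint S' ⤳ x := genericPoint_specializes x
  let ρ : S'.presheaf.stalk x →+* S'.functionField := (S'.presheaf.stalkSpecializes hsp).hom
  have hρ : Function.Injective ρ := IsFractionRing.injective (S'.presheaf.stalk x) S'.functionField
  have hρσ : ρ.comp σ = K425.GenEtale.ffMap q e := by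
    have h1 := q.stalkSpecializes_stalkMap (genericPoint S') x hsp
    have h2 : S.presheaf.stalkSpecializes (specializes_of_eq hx) ≫ q.stalkMap x ≫
        S'.presheaf.stalkSpecializes hsp = S.presheaf.stalkSpecializes (specializes_of_eq e) ≫
          q.stalkMap (genericPoint S') := by
      rw [← h1, ← Category.assoc, TopCat.Presheaf.stalkSpecializes_comp]
    exact congrArg CommRingCat.Hom.hom h2
  have hdom : IsDomain (S'.presheaf.stalk x) := inferInstance
  have hF : IsField (S'.presheaf.stalk x) := by
    refine isField_of_map (Field.toIsField S.functionField) σ fun b => ?_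
    letI := σ.toAlgebra
    letI := (K425.GenEtale.ffMap q e).toAlgebra
    letI := ρ.toAlgebra
    have : IsScalarTower S.functionField (S'.presheaf.stalk x) S'.functionField :=
      IsScalarTower.of_algebraMap_eq' hρσ.symm
    have h1 : IsAlgebraic S.functionField (algebraMap (S'.presheaf.stalk x) S'.functionField b) :=
      h.isAlgebraic _
    exact (isAlgebraic_algebraMap_iff hρ).mp h1
  have h1 : genericPoint S' ∈ Set.range (S'.fromSpecStalk x) := by
    rw [Scheme.range_fromSpecStalk]
    exact hsp
  obtain ⟨y, hy⟩ := h1
  have hy' : y = IsLocalRing.closedPoint (S'.presheaf.stalk x) := by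
    apply PrimeSpectrum.ext
    have h2 : IsLocalRing.maximalIdeal (S'.presheaf.stalk x) = ⊥ := IsLocalRing.isField_iff_maximalIdeal_eq.mp hF
    have h3 : y.asIdeal ≤ IsLocalRing.maximalIdeal (S'.presheaf.stalk x) :=
      IsLocalRing.le_maximalIdeal y.isPrime.ne_top
    show y.asIdeal = IsLocalRing.maximalIdeal (S'.presheaf.stalk x)
    rw [h2] at h3 ⊢
    exact le_bot_iff.mp h3
  rw [← hy, hy']
  exact (Scheme.fromSpecStalk_closedPoint).symm

theorem genEtAlt_of_separable {S S' : Scheme.{u}} [IsIntegral S] [IsIntegral S'] [IsLocallyNoetherian S]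
    (q : S' ⟶ S) [IsProper q] (e : q (genericPoint S') = genericPoint S)
    (h : @Algebra.IsSeparable S.functionField S'.functionField _ _ (K425.GenEtale.ffMap q e).toAlgebra) :
    GenEtAlt q := by
  have halg : @Algebra.IsAlgebraic S.functionField S'.functionField _ _
      (K425.GenEtale.ffMap q e).toAlgebra := by
    letI := (K425.GenEtale.ffMap q e).toAlgebra
    exact Algebra.IsSeparable.isAlgebraic _ _
  obtain ⟨U, hU, hUe⟩ := K425.GenEtale.exists_etale_of_isSeparable q e h
  have hηU : genericPoint S' ∈ U :=
    (genericPoint_spec S').mem_open_set_iff U.isOpen |>.mpr (by simpa using hU)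
  obtain ⟨V, hηV, hV⟩ := exists_nhd_of_isClosedMap q U (genericPoint S) (fun x hx => by
    rw [eq_genericPoint q e halg x hx]; exact hηU)
  have h1 : Etale (q ∣_ V) := etale_restrict q U V hV
  have h3 : LocallyQuasiFinite (q ∣_ V) := K147.LQF.locallyQuasiFinite_of_etale _
  have h2 : IsFinite (q ∣_ V) := IsFinite.of_isProper_of_locallyQuasiFinite _
  exact ⟨⟨inferInstance, inferInstance, inferInstance, isDominant_of_mem q _ e, V, ⟨_, hηV⟩, h2⟩, V, ⟨_, hηV⟩, h1⟩

end K264.Rfc
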