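import Groth.Agent.FlatMor.K264.Rfc.DescGeom
import Groth.Agent.FlatMor.K263.EtaRed
import Groth.Agent.S12442

/-!
# Descending finite modifications to a finite stage
-/

set_option autoImplicit false
set_option backward.isDefEq.respectTransparency false
universe u

open CategoryTheory AlgebraicGeometry Limits TopologicalSpace Topology
open Groth.Agent.Ega43.LimitDescend Groth.Agent.Ega43.LimitDescendCompare Groth.Agent

namespace K264.Rfc

open K263.EtaRed

theorem fpqc_of_stalk {S₀ S₁ : Scheme.{u}} [IsIntegral S₀] [IsIntegral S₁]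
    (k : Spec (S₁.presheaf.stalk (genericPoint S₁)) ⟶ Spec (S₀.presheaf.stalk (genericPoint S₀))) :
    ((@Surjective ⊓ @Flat ⊓ @QuasiCompact : MorphismProperty Scheme.{u})) k := by
  have h0 : IsField (S₀.presheaf.stalk (genericPoint S₀)) := Field.toIsField (S₀.functionField)
  have hs : Subsingleton (Spec (S₀.presheaf.stalk (genericPoint S₀))) := by
    let := h0.toField
    exact (inferInstance : Subsingleton (PrimeSpectrum (S₀.presheaf.stalk (genericPoint S₀))))
  have hn : Nonempty (Spec (S₁.presheaf.stalk (genericPoint S₁))) := ⟨IsLocalRing.closedPoint _⟩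
  refine ⟨⟨⟨fun x => ⟨hn.some, Subsingleton.elim _ _⟩⟩, ?_⟩, inferInstance⟩
  obtain ⟨κ, rfl⟩ := Spec.map_surjective k
  rw [Flat.SpecMap_iff]
  let := h0.toField
  algebraize [κ.hom]
  change Module.Flat _ _
  infer_instance

theorem isIso_snd_descend {S₀ S₁ X X₁ Y Y₁ : Scheme.{u}} [IsIntegral S₀] [IsIntegral S₁] (π : S₁ ⟶ S₀)
    (hπ : π (genericPoint S₁) = genericPoint S₀) (φ : X ⟶ S₀) (φ₁ : X₁ ⟶ S₁) (a : X₁ ⟶ X)
    (sq : IsPullback a φ₁ φ π) (ψ : Y ⟶ X) (ψ₁ : Y₁ ⟶ X₁) (q : Y₁ ⟶ Y) (sq' : IsPullback q ψ₁ ψ a)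
    (h : IsIso (pullback.snd ψ₁ (pullback.fst φ₁ (S₁.fromSpecStalk (genericPoint S₁))))) :
    IsIso (pullback.snd ψ (pullback.fst φ (S₀.fromSpecStalk (genericPoint S₀)))) := by
  obtain ⟨k, hk⟩ := K263.EtaUniq.exists_generic π hπ
  set j₁ := S₁.fromSpecStalk (genericPoint S₁) with hj₁
  set j₀ := S₀.fromSpecStalk (genericPoint S₀) with hj₀
  have h1 := (IsPullback.of_hasPullback φ₁ j₁).flip
  have h0 : IsPullback (pullback.fst φ j₀) (pullback.snd φ j₀) φ j₀ := IsPullback.of_hasPullback φ j₀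
  -- the big square
  have hb := (h1.paste_vert sq.flip).flip
  rw [← hk] at hb
  let r : pullback φ₁ j₁ ⟶ pullback φ j₀ := h0.lift (pullback.fst φ₁ j₁ ≫ a) (pullback.snd φ₁ j₁ ≫ k)
    (by rw [hb.w, Category.assoc])
  have hr1 : r ≫ pullback.fst φ j₀ = pullback.fst φ₁ j₁ ≫ a := h0.lift_fst _ _ _
  have hr2 : r ≫ pullback.snd φ j₀ = pullback.snd φ₁ j₁ ≫ k := h0.lift_snd _ _ _
  have hr : IsPullback r (pullback.snd φ₁ j₁) (pullback.snd φ j₀) k := by
    refine IsPullback.of_right ?_ hr2 h0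
    rw [hr1]
    exact hb
  have hQ : ((@Surjective ⊓ @Flat ⊓ @QuasiCompact : MorphismProperty Scheme.{u})) r :=
    MorphismProperty.of_isPullback hr.flip (fpqc_of_stalk k)
  -- the isomorphism over the big generic fibre
  have h2 : IsIso (pullback.snd ψ (r ≫ pullback.fst φ j₀)) := by
    rw [hr1]
    have h3 := (IsPullback.of_hasPullback ψ₁ (pullback.fst φ₁ j₁)).paste_horiz sq'
    rw [← h3.isoPullback_inv_snd]
    infer_instance
  have h4 : IsIso (pullback.snd (pullback.snd ψ (pullback.fst φ j₀)) r) := by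
    have h5 := (IsPullback.of_hasPullback (pullback.snd ψ (pullback.fst φ j₀)) r).paste_horiz
      (IsPullback.of_hasPullback ψ (pullback.fst φ j₀))
    rw [← h5.isoPullback_hom_snd]
    infer_instance
  exact MorphismProperty.of_pullback_snd_of_descendsAlong (P := MorphismProperty.isomorphisms Scheme.{u})
    (Q := (@Surjective ⊓ @Flat ⊓ @QuasiCompact)) hQ h4

theorem geometricallyReduced_of_forall {X S : Scheme.{u}} (f : X ⟶ S)
    (h : ∀ (K : Type u) [Field K] (k : Spec (CommRingCat.of K) ⟶ S), IsReduced (pullback f k)) :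
    GeometricallyReduced f := by
  refine ⟨fun K _ y Y fst snd hY => ?_⟩
  have := h K y
  exact isReduced_of_isOpenImmersion hY.isoPullback.hom

theorem isReduced_pullback_of_geom {X S : Scheme.{u}} (f : X ⟶ S) [GeometricallyReduced f]
    (K : Type u) [Field K] (k : Spec (CommRingCat.of K) ⟶ S) : IsReduced (pullback f k) :=
  GeometricallyReduced.geometrically_isReduced (f := f) k _ _ (IsPullback.of_hasPullback f k)

section

variable {I : Type u} [SmallCategory I] [IsCofiltered I] (D : I ⥤ Scheme.{u}) (c : Cone D) (hc : IsLimit c)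
  [∀ (i j : I) (f : i ⟶ j), IsAffineHom (D.map f)] [∀ i, CompactSpace (D.obj i)]
  [∀ i, QuasiSeparatedSpace (D.obj i)]
  {S X₀ : Scheme.{u}} (t : ∀ j, D.obj j ⟶ S) (ht : ∀ {i j : I} (φ : i ⟶ j), D.map φ ≫ t j = t i)
  (φ₀ : X₀ ⟶ S) [QuasiCompact φ₀] [QuasiSeparated φ₀] [LocallyOfFinitePresentation φ₀]
  (p : c.pt ⟶ S) (hp : ∀ j, c.π.app j ≫ t j = p)

include hc ht hp in
theorem descend_etaRed [∀ j, IsIntegral (D.obj j)] [IsIntegral c.pt]
    (hgen : ∀ j, c.π.app j (genericPoint c.pt) = genericPoint (D.obj j))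
    (h : EtaRed (pullback.snd φ₀ p)) : ∃ i, EtaRed (pullback.snd φ₀ (t i)) := by
  obtain ⟨X', ψ, h1, h2, h3, h4, h5⟩ := h
  have hfp : LocallyOfFinitePresentation ψ := Groth.Agent.S12442.result ψ (pullback.snd φ₀ p)
  have hg := geometricallyReduced_of_forall _ h5
  obtain ⟨i, Xi, ψi, q, a1, a2, a3, sq, a4, a5, a6⟩ := exists_model_props D c hc t ht φ₀ p hp ψ
    (P := @IsFinite) (Q := @Flat ⊓ @GeometricallyReduced)
    K286.Desc.descendsLim_isFinite
    (DescendsLim.inf Groth.Agent.Sga3.H515.LimSmooth.descendsLim_flat descendsLim_geometricallyReduced) h1 ⟨h3, hg⟩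
  refine ⟨i, Xi, ψi, a4, ?_, a5, inferInstance, fun K _ k => isReduced_pullback_of_geom _ K k⟩
  exact isIso_snd_descend (S₁ := c.pt) (c.π.app i) (hgen i) (pullback.snd φ₀ (t i)) (pullback.snd φ₀ p) _
    (isPullback_pbCone t ht φ₀ c p hp _ _ (IsPullback.of_hasPullback φ₀ p) i) ψi ψ q sq h2

end

end K264.Rfc
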