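import Groth.Agent.FlatMor.K264.Rfc.Descend
import Groth.Agent.ConsPropPair.K286.Desc
import Groth.Agent.Sga3.H515.LimSmooth
import Groth.Agent.S0434
import Groth.Agent.Flat2G.ApproxGeom

/-!
# Geometric reducedness of the fibres descends along limits
-/

set_option autoImplicit false
universe u

open CategoryTheory AlgebraicGeometry Limits TopologicalSpace Topology
open Groth.Agent.Ega43.LimitDescend Groth.Agent.Ega43.LimitDescendCompare Groth.Agent

namespace K264.Rfc

theorem fibrewiseProp_geometricallyReduced :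
    Flat2G.ApproxProp.FibrewiseProp (@GeometricallyReduced : MorphismProperty Scheme.{u}) := by
  have hP := Flat2G.ApproxGeom.fibrewiseProp.{u} Flat2G.ApproxGeom.descendsField_isReduced (by
    intro X Y f _ _ _ _ _ h
    obtain ⟨V, hV, hf⟩ := S0434.result f ((geometricallyReduced_iff _).mpr h)
    exact ⟨V, hV, (geometricallyReduced_iff _).mp hf⟩)
  rw [GeometricallyReduced.eq_geometrically]
  exact hP

theorem descendsLim_geometricallyReduced : DescendsLim @GeometricallyReduced.{u} := by
  have hF := fibrewiseProp_geometricallyReduced.{u}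
  have h : Ega43.LimDesc.Descends @GeometricallyReduced.{u} := ?_
  · have := MorphismProperty.IsStableUnderBaseChange.respectsIso (P := @GeometricallyReduced.{u})
    exact @descendsLim_of_descends _ this @h
  intro I _ _ D c hc _ _ _ i₀ X₀ f₀ _ _ _ X q f hX hf
  let A : Set (D.obj i₀) := {y | GeometricallyReduced (f₀.fiberToSpecResidueField y)}
  have hA : IsConstructible A := (Groth.Agent.S1301.result f₀).isConstructible
  have hpre : (⇑(c.π.app i₀) ⁻¹' A : Set c.pt) = ⇑(c.π.app i₀) ⁻¹' Set.univ := by
    ext y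
    simp only [Set.preimage_univ, Set.mem_univ, iff_true]
    exact (hF.fiber_iff f₀ f q _ hX y).mp (hF.fiber f hf y)
  obtain ⟨i, φ, hφ⟩ := K115.Cons.exists_preimage_eq_preimage D c hc i₀ A Set.univ hA
    (IsConstructible.univ) hpre
  have h1 : IsPullback (pullback.fst f₀ (D.map φ)) (pullback.snd f₀ (D.map φ)) f₀ (D.map φ) :=
    IsPullback.of_hasPullback _ _
  refine ⟨i, φ, pullback f₀ (D.map φ), pullback.fst f₀ (D.map φ), pullback.snd f₀ (D.map φ), h1, ?_⟩
  apply hF.fib
  intro y
  refine (hF.fiber_iff f₀ _ _ _ h1 y).mpr ?_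
  have : y ∈ (⇑(D.map φ) ⁻¹' A : Set (D.obj i)) := by rw [hφ]; trivial
  exact this

end K264.Rfc
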