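import Groth.Agent.Ega43.LimitDescend
import Groth.Agent.S0591
import Groth.Agent.S1301
import Groth.Agent.Lim8.K115.Cons

/-!
# Descending morphisms and their properties to a finite stage
-/

set_option autoImplicit false
set_option backward.isDefEq.respectTransparency false
set_option backward.defeqAttrib.useBackward true
universe u

open CategoryTheory AlgebraicGeometry Limits TopologicalSpace
open Groth.Agent.Ega43.LimitDescend

namespace K264.Rfc

theorem snd_comp {P : MorphismProperty Scheme.{u}} [P.IsStableUnderBaseChange] {X Y Z W : Scheme.{u}}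
    (f : X ⟶ Z) (g : Y ⟶ W) (h : W ⟶ Z) (H : P (pullback.snd f h)) : P (pullback.snd f (g ≫ h)) := by
  have h1 : IsPullback (pullback.fst f h) (pullback.snd f h) f h := IsPullback.of_hasPullback _ _
  have h2 : IsPullback (pullback.fst f (g ≫ h)) (pullback.snd f (g ≫ h)) f (g ≫ h) :=
    IsPullback.of_hasPullback _ _
  let m : pullback f (g ≫ h) ⟶ pullback f h :=
    pullback.lift (pullback.fst f (g ≫ h)) (pullback.snd f (g ≫ h) ≫ g) (by
      rw [Category.assoc, pullback.condition])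
  have h3 : IsPullback m (pullback.snd f (g ≫ h)) (pullback.snd f h) g := by
    refine IsPullback.of_right (h₁₂ := pullback.fst f h) (h₂₂ := h) (v₁₃ := f) ?_ ?_ h1
    · rw [pullback.lift_fst]; exact h2
    · rw [pullback.lift_snd]
  exact P.of_isPullback h3 H

theorem snd_comp' {P : MorphismProperty Scheme.{u}} [P.IsStableUnderBaseChange] {X Y Z W : Scheme.{u}}
    (f : X ⟶ Z) (g : Y ⟶ W) (h : W ⟶ Z) (k : Y ⟶ Z) (e : g ≫ h = k) (H : P (pullback.snd f h)) :
    P (pullback.snd f k) := by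
  subst e
  exact snd_comp f g h H

theorem DescendsLim.inf {P Q : MorphismProperty Scheme.{u}} [P.IsStableUnderBaseChange]
    [Q.IsStableUnderBaseChange] (hP : DescendsLim P) (hQ : DescendsLim Q) : DescendsLim (P ⊓ Q) := by
  intro J _ _ E c hc _ _ _ B X₀ t ht f₀ _ _ _ p hp X q f sq hf
  obtain ⟨i, hi⟩ := hP E c hc t ht f₀ p hp q f sq hf.1
  obtain ⟨j, hj⟩ := hQ E c hc t ht f₀ p hp q f sq hf.2
  obtain ⟨k, a, b, -⟩ := IsCofilteredOrEmpty.cone_objs i j
  refine ⟨k, ?_, ?_⟩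
  · exact snd_comp' f₀ (E.map a) (t i) _ (ht a) hi
  · exact snd_comp' f₀ (E.map b) (t j) _ (ht b) hj

section

variable {I : Type u} [SmallCategory I] [IsCofiltered I] (D : I ⥤ Scheme.{u}) (c : Cone D) (hc : IsLimit c)
  [∀ (i j : I) (f : i ⟶ j), IsAffineHom (D.map f)] [∀ i, CompactSpace (D.obj i)]
  [∀ i, QuasiSeparatedSpace (D.obj i)]
  {S X₀ : Scheme.{u}} (t : ∀ j, D.obj j ⟶ S) (ht : ∀ {i j : I} (φ : i ⟶ j), D.map φ ≫ t j = t i)
  (φ₀ : X₀ ⟶ S) [QuasiCompact φ₀] [QuasiSeparated φ₀]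
  (p : c.pt ⟶ S) (hp : ∀ j, c.π.app j ≫ t j = p)
  {X' : Scheme.{u}} (ψ : X' ⟶ pullback φ₀ p)

/-- The cone with vertex the base change to the limit. -/
noncomputable abbrev bcCone : Cone (pbDiagram t ht φ₀) :=
  pbCone t ht φ₀ c p hp (pullback.fst φ₀ p) (pullback.snd φ₀ p) (IsPullback.of_hasPullback φ₀ p)

include hc in
theorem exists_model [LocallyOfFinitePresentation ψ] [QuasiCompact ψ] [QuasiSeparated ψ] :
    ∃ (i : I) (Xi : Scheme.{u}) (ψi : Xi ⟶ pullback φ₀ (t i)) (q : X' ⟶ Xi),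
      LocallyOfFinitePresentation ψi ∧ QuasiCompact ψi ∧ QuasiSeparated ψi ∧
      IsPullback q ψ ψi ((bcCone D c t ht φ₀ p hp).π.app i) := by
  have h1 : ∀ i, CompactSpace ((pbDiagram t ht φ₀).obj i) := fun i => inferInstance
  have h2 : ∀ i, QuasiSeparatedSpace ((pbDiagram t ht φ₀).obj i) := fun i => inferInstance
  have h3 : ∀ (i j : I) (f : i ⟶ j), IsAffineHom ((pbDiagram t ht φ₀).map f) := fun i j f => inferInstance
  exact Groth.Agent.S0591.result (pbDiagram t ht φ₀) (bcCone D c t ht φ₀ p hp)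
    (isLimitPbCone t ht φ₀ c p hp _ _ _ hc) X' ψ

include hc in
theorem exists_model_props [LocallyOfFinitePresentation φ₀]
    [LocallyOfFinitePresentation ψ] [QuasiCompact ψ] [QuasiSeparated ψ]
    {P Q : MorphismProperty Scheme.{u}} [P.IsStableUnderBaseChange] [Q.IsStableUnderBaseChange]
    (hP : DescendsLim P) (hQ : DescendsLim Q) (hψ : P ψ) (hψ' : Q (ψ ≫ pullback.snd φ₀ p)) :
    ∃ (i : I) (Xi : Scheme.{u}) (ψi : Xi ⟶ pullback φ₀ (t i)) (q : X' ⟶ Xi),
      LocallyOfFinitePresentation ψi ∧ QuasiCompact ψi ∧ QuasiSeparated ψi ∧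
      IsPullback q ψ ψi ((bcCone D c t ht φ₀ p hp).π.app i) ∧ P ψi ∧ Q (ψi ≫ pullback.snd φ₀ (t i)) := by
  obtain ⟨i, Xi, ψi, q, h1, h2, h3, sq⟩ := exists_model D c hc t ht φ₀ p hp ψ
  have hcE := isLimitPbCone t ht φ₀ c p hp _ _ (IsPullback.of_hasPullback φ₀ p) hc
  let E := pbDiagram t ht φ₀
  -- the property `P`
  obtain ⟨j, hj⟩ := hP (Over.forget i ⋙ E) (overCone (bcCone D c t ht φ₀ p hp) i)
    (isLimitOverCone _ hcE i) (fun j => E.map j.hom) (fun {j k} a => by
      rw [Functor.comp_map, ← E.map_comp]; congr 1; exact Over.w a) ψi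
    ((bcCone D c t ht φ₀ p hp).π.app i) (fun j => (bcCone D c t ht φ₀ p hp).w j.hom) q ψ sq hψ
  have sq' : IsPullback q (ψ ≫ pullback.snd φ₀ p) (ψi ≫ pullback.snd φ₀ (t i)) (c.π.app i) :=
    sq.paste_vert (isPullback_pbCone t ht φ₀ c p hp _ _ (IsPullback.of_hasPullback φ₀ p) i)
  have hfp : LocallyOfFinitePresentation (ψi ≫ pullback.snd φ₀ (t i)) := inferInstance
  obtain ⟨j', hj'⟩ := hQ (Over.forget i ⋙ D) (overCone c i) (isLimitOverCone _ hc i)
    (fun j => D.map j.hom) (fun {j k} a => by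
      rw [Functor.comp_map, ← D.map_comp]; congr 1; exact Over.w a) (ψi ≫ pullback.snd φ₀ (t i))
    (c.π.app i) (fun j => c.w j.hom) q _ sq' hψ'
  obtain ⟨k, a, b, -⟩ := IsCofilteredOrEmpty.cone_objs j j'
  have ha : E.map a.left ≫ E.map j.hom = E.map k.hom := by
    rw [← E.map_comp]; congr 1; exact Over.w a
  have hb : D.map b.left ≫ D.map j'.hom = D.map k.hom := by
    rw [← D.map_comp]; congr 1; exact Over.w b
  let ψk : pullback ψi (E.map k.hom) ⟶ E.obj k.left := pullback.snd ψi (E.map k.hom)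
  have hPk : P ψk := by
    have := snd_comp ψi (E.map a.left) (E.map j.hom) hj
    rw [ha] at this
    exact this
  have sqk : IsPullback (pullback.fst ψi (E.map k.hom)) ψk ψi (E.map k.hom) := IsPullback.of_hasPullback _ _
  have sqk' : IsPullback (pullback.fst ψi (E.map k.hom)) (ψk ≫ pullback.snd φ₀ (t k.left))
      (ψi ≫ pullback.snd φ₀ (t i)) (D.map k.hom) :=
    sqk.paste_vert (isPullback_pbSnd t ht φ₀ k.hom)
  have hQk : Q (ψk ≫ pullback.snd φ₀ (t k.left)) := by
    have h4 := snd_comp (ψi ≫ pullback.snd φ₀ (t i)) (D.map b.left) (D.map j'.hom) hj'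
    rw [hb] at h4
    have h5 : IsPullback (pullback.fst (ψi ≫ pullback.snd φ₀ (t i)) (D.map k.hom))
      (pullback.snd (ψi ≫ pullback.snd φ₀ (t i)) (D.map k.hom)) (ψi ≫ pullback.snd φ₀ (t i)) (D.map k.hom) :=
      IsPullback.of_hasPullback _ _
    have h6 := sqk'.isoIsPullback_hom_snd _ _ h5
    rw [← h6]
    exact (Q.cancel_left_of_respectsIso _ _).mpr h4
  let π := (bcCone D c t ht φ₀ p hp).π
  have hw : π.app k.left ≫ E.map k.hom = π.app i := (bcCone D c t ht φ₀ p hp).w k.hom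
  refine ⟨k.left, pullback ψi (E.map k.hom), ψk, pullback.lift q (ψ ≫ π.app k.left) (by
    rw [Category.assoc, hw, sq.w]), inferInstance, inferInstance, inferInstance, ?_, hPk, hQk⟩
  refine IsPullback.of_right (h₁₂ := pullback.fst ψi (E.map k.hom)) (h₂₂ := E.map k.hom) (v₁₃ := ψi) ?_ ?_ sqk
  · rw [pullback.lift_fst, hw]; exact sq
  · rw [pullback.lift_snd]

end

end K264.Rfc
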