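import Groth.Agent.FlatMor.K442.Vals
import Groth.Agent.FlatMor.K667.Short
import Groth.Agent.Sga5.H853.BaseRing
import Groth.Agent.VarietyA.GeomRedAlg
import Groth.Agent.S1362

/-!
# Fibres of integrally closed algebras over valuation rings with separably closed fraction field
-/

set_option autoImplicit false
universe u

open TensorProduct IsLocalRing

namespace K264.Rfc

theorem isSepClosed_of_ringEquiv {K L : Type u} [Field K] [Field L] (e : K ≃+* L) [IsSepClosed K] :
    IsSepClosed L := by
  refine IsSepClosed.of_exists_root L fun p hm hi hs => ?_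
  have h1 : (p.map e.symm.toRingHom).Separable := hs.map
  have h2 : (p.map e.symm.toRingHom).degree ≠ 0 := by
    rw [Polynomial.degree_map]
    exact hi.degree_pos.ne'
  obtain ⟨x, hx⟩ := IsSepClosed.exists_root _ h2 h1
  refine ⟨e x, ?_⟩
  have h3 : (p.map e.symm.toRingHom).eval x = 0 := hx
  rw [Polynomial.eval_map] at h3
  have h4 := congrArg e h3
  rw [map_zero] at h4
  have h5 : e (Polynomial.eval₂ e.symm.toRingHom x p) = Polynomial.eval (e x) p := by
    rw [← RingEquiv.coe_toRingHom e, Polynomial.hom_eval₂]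
    have : (e : K →+* L).comp e.symm.toRingHom = RingHom.id L := by
      ext y; simp
    rw [this]
    rfl
  rw [← h5]
  exact h4

theorem isAlgClosed_residueField_local (W K : Type u) [CommRing W] [IsDomain W] [IsLocalRing W]
    [IsIntegrallyClosed W] [Field K] [Algebra W K] [IsFractionRing W K] [IsSepClosed K]
    (h : maximalIdeal W ≠ ⊥) : IsAlgClosed (ResidueField W) := by
  have h3 : IsSepClosed (FractionRing W) :=
    isSepClosed_of_ringEquiv (FractionRing.algEquiv W K).symm.toRingEquiv
  exact Groth.Agent.Sga5.H853.BaseRing.isAlgClosed_residueField W h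

section

variable {V : Type u} [CommRing V] [IsDomain V] [ValuationRing V]

/-- Elements of the extension of an ideal of a valuation ring. -/
theorem exists_eq_smul_of_mem_map {E : Type u} [CommRing E] [Algebra V E] (p : Ideal V) {x : E}
    (hx : x ∈ p.map (algebraMap V E)) : ∃ c ∈ p, ∃ y : E, x = algebraMap V E c * y := by
  induction hx using Submodule.span_induction with
  | mem x hx =>
    obtain ⟨c, hc, rfl⟩ := hx
    exact ⟨c, hc, 1, by rw [mul_one]⟩
  | zero => exact ⟨0, Ideal.zero_mem _, 0, by simp⟩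
  | add x y _ _ hx hy =>
    obtain ⟨c, hc, a, rfl⟩ := hx
    obtain ⟨d, hd, b, rfl⟩ := hy
    rcases ValuationRing.cond c d with ⟨e, he | he⟩
    · exact ⟨c, hc, a + algebraMap V E e * b, by rw [← he, map_mul]; ring⟩
    · exact ⟨d, hd, algebraMap V E e * a + b, by rw [← he, map_mul]; ring⟩
  | smul r x _ hx =>
    obtain ⟨c, hc, a, rfl⟩ := hx
    exact ⟨c, hc, r * a, by rw [smul_eq_mul]; ring⟩

/-- The fibre at a prime is reduced. -/
theorem isReduced_fiber (hsq : ∀ c : V, c ≠ 0 → ∃ d : V, Associated c (d ^ 2)) {E : Type u} [CommRing E]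
    [Algebra V E] [IsReduced E]
    (hic : ∀ (c : V) (a b : E), c ≠ 0 → a ^ 2 = algebraMap V E c ^ 2 * b → ∃ e, a = algebraMap V E c * e)
    (p : Ideal V) [p.IsPrime] : IsReduced (p.ResidueField ⊗[V] E) := by
  rw [isReduced_iff_pow_one_lt 2 one_lt_two]
  intro z hz
  obtain ⟨r, hr, a, ha⟩ := Ideal.Fiber.exists_smul_eq_one_tmul p z
  have hr' : algebraMap V p.ResidueField r ≠ 0 := by
    rwa [Ne, Ideal.algebraMap_residueField_eq_zero]
  have h1 : (1 ⊗ₜ[V] (a ^ 2) : p.ResidueField ⊗[V] E) = 0 := by
    have : (1 ⊗ₜ[V] (a ^ 2) : p.ResidueField ⊗[V] E) = (1 ⊗ₜ[V] a) ^ 2 := by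
      rw [Algebra.TensorProduct.tmul_pow, one_pow]
    rw [this, ← ha, smul_pow, hz, smul_zero]
  obtain ⟨s, hs, hsa⟩ := Groth.Agent.S1362.exists_mul_mem_map_of_tmul_eq_zero p (a ^ 2) h1
  have h2 : ∃ s ∉ p, ∃ e ∈ p.map (algebraMap V E), algebraMap V E s * a = e := by
    obtain ⟨c, hc, y, hy⟩ := exists_eq_smul_of_mem_map p hsa
    by_cases hc0 : c = 0
    · refine ⟨s, hs, 0, Ideal.zero_mem _, ?_⟩
      have : (algebraMap V E s * a) ^ 2 = 0 := by
        rw [mul_pow, pow_two, mul_assoc, hy, hc0]
        simp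
      exact pow_eq_zero_iff two_ne_zero |>.mp this
    · obtain ⟨d, w, hw⟩ := hsq c hc0
      have hd0 : d ≠ 0 := by
        rintro rfl
        rw [zero_pow two_ne_zero] at hw
        exact hc0 ((Units.mul_left_eq_zero w).mp hw)
      have hdp : d ∈ p := by
        have : d ^ 2 ∈ p := by rw [← hw]; exact Ideal.mul_mem_right _ _ hc
        exact Ideal.IsPrime.mem_of_pow_mem inferInstance 2 this
      obtain ⟨e, he⟩ := hic d (algebraMap V E s * a) (algebraMap V E (↑w⁻¹ * s) * y) hd0 (by
        have hc' : c = d ^ 2 * ↑w⁻¹ := by rw [← hw]; simp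
        rw [mul_pow, pow_two (algebraMap V E s), mul_assoc, hy, hc']
        simp only [map_mul, map_pow]
        ring)
      exact ⟨s, hs, _, Ideal.mul_mem_right e _ (Ideal.mem_map_of_mem _ hdp), he⟩
  obtain ⟨s', hs', e, he, hse⟩ := h2
  have hs'' : algebraMap V p.ResidueField s' ≠ 0 := by
    rwa [Ne, Ideal.algebraMap_residueField_eq_zero]
  have h3 : (1 ⊗ₜ[V] e : p.ResidueField ⊗[V] E) = 0 := by
    obtain ⟨c, hc, y, hy⟩ := exists_eq_smul_of_mem_map p he
    rw [hy, ← Algebra.smul_def, ← TensorProduct.smul_tmul, Algebra.smul_def, mul_one]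
    have : algebraMap V p.ResidueField c = 0 := by rwa [Ideal.algebraMap_residueField_eq_zero]
    rw [this, TensorProduct.zero_tmul]
  have h4 : (algebraMap V p.ResidueField s') • (1 ⊗ₜ[V] a : p.ResidueField ⊗[V] E) = 0 := by
    rw [← h3, ← hse, TensorProduct.smul_tmul', smul_eq_mul, mul_one, ← Algebra.smul_def,
      ← TensorProduct.smul_tmul, Algebra.smul_def, mul_one]
  have h5 : (1 ⊗ₜ[V] a : p.ResidueField ⊗[V] E) = 0 := (smul_eq_zero_iff_right hs'').mp h4
  have h6 : (algebraMap V p.ResidueField r) • z = 0 := by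
    rw [algebraMap_smul, ha, h5]
  exact (smul_eq_zero_iff_right hr').mp h6

omit [ValuationRing V] in
theorem isAlgClosed_residueField [IsIntegrallyClosed V] [IsSepClosed (FractionRing V)] (p : Ideal V) [p.IsPrime]
    (hp : p ≠ ⊥) : IsAlgClosed p.ResidueField := by
  let Vp := Localization.AtPrime p
  have h0 : IsDomain Vp := IsLocalization.isDomain_localization p.primeCompl_le_nonZeroDivisors
  have h2 : IsIntegrallyClosed Vp := isIntegrallyClosed_of_isLocalization Vp p.primeCompl
    p.primeCompl_le_nonZeroDivisors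
  refine isAlgClosed_residueField_local Vp (FractionRing V) ?_
  intro h
  obtain ⟨x, hx, hx0⟩ := Submodule.exists_mem_ne_zero_of_ne_bot hp
  have h4 : algebraMap V Vp x ∈ IsLocalRing.maximalIdeal Vp := by
    rw [← Localization.AtPrime.map_eq_maximalIdeal]
    exact Ideal.mem_map_of_mem _ hx
  rw [h] at h4
  exact hx0 (IsLocalization.injective Vp p.primeCompl_le_nonZeroDivisors (by rw [map_zero]; exact h4))

/-- Geometric reducedness of the fibres away from the generic point. -/
theorem isReduced_tensor_of_not_injective [IsSepClosed (FractionRing V)]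
    (hsq : ∀ c : V, c ≠ 0 → ∃ d : V, Associated c (d ^ 2)) {E : Type u} [CommRing E]
    [Algebra V E] [IsReduced E]
    (hic : ∀ (c : V) (a b : E), c ≠ 0 → a ^ 2 = algebraMap V E c ^ 2 * b → ∃ e, a = algebraMap V E c * e)
    (F : Type u) [Field F] [Algebra V F] (hF : ¬ Function.Injective (algebraMap V F)) :
    IsReduced (F ⊗[V] E) := by
  let p : Ideal V := RingHom.ker (algebraMap V F)
  have hpr : p.IsPrime := RingHom.ker_isPrime _
  have hp : p ≠ ⊥ := fun h => hF ((RingHom.injective_iff_ker_eq_bot _).mpr h)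
  have h1 := isReduced_fiber hsq hic p
  have h2 := isAlgClosed_residueField p hp
  let f : p.ResidueField →+* F := Ideal.ResidueField.lift p (algebraMap V F) le_rfl (by
    intro x hx
    exact IsUnit.mk0 _ hx)
  let _ : Algebra p.ResidueField F := f.toAlgebra
  have : IsScalarTower V p.ResidueField F := IsScalarTower.of_algebraMap_eq fun x =>
    (Ideal.ResidueField.lift_algebraMap _ _ _ _ x).symm
  let e := Algebra.TensorProduct.cancelBaseChange V p.ResidueField p.ResidueField F E
  have h3 : IsReduced (F ⊗[p.ResidueField] (p.ResidueField ⊗[V] E)) :=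
    Groth.Agent.VarietyA.GeomRedAlg.isReduced_tensorProduct_of_isAlgClosed
  exact isReduced_of_injective e.symm e.symm.injective

end

end K264.Rfc
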