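import Groth.Agent.FlatMor.K264.Rfc.Sol
import Groth.Agent.S0590
import Groth.Agent.CycB.ImageInt
import Groth.Agent.Sga4A.IntLift2
import Groth.Agent.FlatB.GeomRed
import Groth.Agent.Sga3.H786.TCMain

/-!
# The reduced fibre theorem over an integral base
-/

set_option autoImplicit false
universe u

open CategoryTheory AlgebraicGeometry Limits TopologicalSpace Topology

namespace K264.Rfc

open K263.EtaRed

/-- The function field of an integral scheme of finite type over the integers is finitely generated. -/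
theorem exists_fg_functionField (S : Scheme.{u}) [IsIntegral S] (a : S ⟶ Spec (CommRingCat.of (ULift.{u} ℤ)))
    [LocallyOfFiniteType a] : ∃ F : Set S.functionField, F.Finite ∧ Subfield.closure F = ⊤ := by
  obtain ⟨U, hU, hηU, -⟩ := exists_isAffineOpen_mem_and_subset (X := S) (x := genericPoint S) (U := ⊤) trivial
  have hne : Nonempty U := ⟨⟨_, hηU⟩⟩
  have hfr := functionField_isFractionRing_of_isAffineOpen S U hU
  have h1 : (a.appLE ⊤ U le_top).hom.FiniteType :=
    LocallyOfFiniteType.finiteType_appLE a (isAffineOpen_top _) hU le_top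
  have hint : ∀ r : Γ(Spec (CommRingCat.of (ULift.{u} ℤ)), ⊤), ∃ n : ℤ, r = n := by
    intro r
    refine ⟨((Scheme.ΓSpecIso (CommRingCat.of (ULift.{u} ℤ))).hom r).down, ?_⟩
    have h2 : (Scheme.ΓSpecIso (CommRingCat.of (ULift.{u} ℤ))).inv
        ((Scheme.ΓSpecIso (CommRingCat.of (ULift.{u} ℤ))).hom r) = r :=
      congr($((Scheme.ΓSpecIso (CommRingCat.of (ULift.{u} ℤ))).hom_inv_id) r)
    rw [← map_intCast (Scheme.ΓSpecIso (CommRingCat.of (ULift.{u} ℤ))).inv.hom]
    rw [← h2]
    congr 1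
    rw [h2]
    apply ULift.ext
    rw [ULift.down_intCast]
    exact (Int.cast_id).symm
  algebraize [(a.appLE ⊤ U le_top).hom]
  obtain ⟨F₀, hF₀⟩ := (inferInstance : Algebra.FiniteType Γ(Spec (CommRingCat.of (ULift.{u} ℤ)), ⊤) Γ(S, U)).out
  refine ⟨algebraMap Γ(S, U) S.functionField '' (F₀ : Set Γ(S, U)), F₀.finite_toSet.image _, ?_⟩
  rw [eq_top_iff]
  have hmem : ∀ x : Γ(S, U), algebraMap Γ(S, U) S.functionField x ∈
      Subfield.closure (algebraMap Γ(S, U) S.functionField '' (F₀ : Set Γ(S, U))) := by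
    intro x
    have hx : x ∈ Algebra.adjoin Γ(Spec (CommRingCat.of (ULift.{u} ℤ)), ⊤) (F₀ : Set Γ(S, U)) := by
      rw [hF₀]; trivial
    induction hx using Algebra.adjoin_induction with
    | mem x hx => exact Subfield.subset_closure ⟨x, hx, rfl⟩
    | algebraMap r =>
      obtain ⟨n, rfl⟩ := hint r
      rw [map_intCast, map_intCast]
      exact intCast_mem _ n
    | add x y _ _ hx hy => rw [map_add]; exact add_mem hx hy
    | mul x y _ _ hx hy => rw [map_mul]; exact mul_mem hx hy
  intro z _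
  obtain ⟨x, y, hy, rfl⟩ := IsFractionRing.div_surjective (A := Γ(S, U)) z
  exact div_mem (hmem x) (hmem y)

theorem noeth_case {S X₀ : Scheme.{u}} [IsIntegral S] [IsNoetherian S]
    (a : S ⟶ Spec (CommRingCat.of (ULift.{u} ℤ))) [LocallyOfFiniteType a] (φ₀ : X₀ ⟶ S)
    [QuasiCompact φ₀] [QuasiSeparated φ₀] [LocallyOfFinitePresentation φ₀]
    (hη : ∀ (K : Type u) [Field K] (k : Spec (CommRingCat.of K) ⟶ S),
      Set.range k = {genericPoint S} → IsReduced (pullback φ₀ k)) :
    ∃ (S' : Scheme.{u}) (_ : IsIntegral S') (g : S' ⟶ S), Pi1.IsNormalScheme S' ∧ GenEtAlt g ∧ RSol φ₀ S' g := by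
  obtain ⟨F, hF, hcl⟩ := exists_fg_functionField S a
  exact exists_alteration S Groth.Agent.Sga3.H786.TC.isNagata_uliftInt a (SeparableClosure S.functionField)
    (solProp φ₀ hη (SeparableClosure S.functionField) fun V => finite_primeSpectrum F hF hcl V)

/-- Geometric reducedness of the generic fibre descends. -/
theorem geomRed_descend {S S₀ X₀ : Scheme.{u}} [IsIntegral S] [IsIntegral S₀] (u : S ⟶ S₀)
    (hu : u (genericPoint S) = genericPoint S₀) (φ₀ : X₀ ⟶ S₀)
    (h : ∀ (K : Type u) [Field K] (k : Spec (CommRingCat.of K) ⟶ S),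
      Set.range k = {genericPoint S} → IsReduced (pullback φ₀ (k ≫ u)))
    (K : Type u) [Field K] (k : Spec (CommRingCat.of K) ⟶ S₀) (hk : Set.range k = {genericPoint S₀}) :
    IsReduced (pullback φ₀ k) := by
  have hk0 : k default = genericPoint S₀ := by
    have : k default ∈ Set.range k := ⟨_, rfl⟩
    rw [hk] at this
    exact this
  obtain ⟨L, _, l, t, ht, ht'⟩ := Groth.Agent.Sga4A.IntLift.exists_field_point u k (genericPoint S) (by rw [hu, hk0])
  have h1 : IsReduced (pullback φ₀ (t ≫ u)) := h L t (by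
    ext x
    simp only [Set.mem_range, Set.mem_singleton_iff]
    constructor
    · rintro ⟨y, rfl⟩
      rw [Subsingleton.elim y default, ht']
    · rintro rfl
      exact ⟨default, ht'⟩)
  rw [ht] at h1
  have sq := (IsPullback.of_hasPullback (pullback.snd φ₀ k) l).flip.paste_vert
    (IsPullback.of_hasPullback φ₀ k).flip
  have h2 : IsReduced (pullback (pullback.snd φ₀ k) l) :=
    isReduced_of_isOpenImmersion sq.flip.isoPullback.hom
  obtain ⟨κ, rfl⟩ := Spec.map_surjective l
  have hfl : Flat (Spec.map κ) := by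
    rw [Flat.SpecMap_iff]
    algebraize [κ.hom]
    change Module.Flat _ _
    infer_instance
  have hsurj : Surjective (Spec.map κ) := ⟨fun x => ⟨default, Subsingleton.elim _ _⟩⟩
  exact Groth.Agent.FlatB.GeomRed.isReduced_of_flat_of_surjective (pullback.fst (pullback.snd φ₀ k) (Spec.map κ))

theorem isReduced_of_sq {X Y S T Z : Scheme.{u}} {φ : X ⟶ S} {φ₀ : Y ⟶ T} {u : S ⟶ T} {v : X ⟶ Y}
    (sq : IsPullback v φ φ₀ u) (k : Z ⟶ S) (h : IsReduced (pullback φ k)) : IsReduced (pullback φ₀ (k ≫ u)) := by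
  have sq' := (IsPullback.of_hasPullback φ k).flip.paste_vert sq.flip
  exact isReduced_of_isOpenImmersion sq'.flip.isoPullback.inv

/-- **Reduced fibre theorem** over an integral base. -/
theorem main {S X : Scheme.{u}} [IsIntegral S] [CompactSpace S] [QuasiSeparatedSpace S]
    (φ : X ⟶ S) [LocallyOfFinitePresentation φ] [QuasiCompact φ] [QuasiSeparated φ]
    (hη : ∀ (K : Type u) [Field K] (k : Spec (CommRingCat.of K) ⟶ S),
      Set.range k = {genericPoint S} → IsReduced (pullback φ k)) :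
    ∃ (S' : Scheme.{u}) (_ : IsIntegral S') (g : S' ⟶ S), GenEtAlt g ∧ EtaRed (pullback.snd φ g) := by
  obtain ⟨I, _, _, _, D, c, hc, h1, h2, ⟨e⟩⟩ := Groth.Agent.S0590.result S
  have inst1 : ∀ (i j : Iᵒᵖ) (f : i ⟶ j), IsAffineHom (D.map f) := h1
  have inst2 : ∀ i, CompactSpace (D.obj i) := fun i => (h2 i).1
  have inst3 : IsNoetherianRing (ULift.{u} ℤ) :=
    isNoetherianRing_of_ringEquiv ℤ ULift.ringEquiv.symm
  have inst4 : ∀ i, IsLocallyNoetherian (D.obj i) := fun i => by
    have := (h2 i).2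
    exact LocallyOfFiniteType.isLocallyNoetherian (Limits.IsTerminal.from specULiftZIsTerminal (D.obj i))
  have inst5 : ∀ i, QuasiSeparatedSpace (D.obj i) := fun i => inferInstance
  obtain ⟨i, Xi, fi, v₁, a1, a2, a3, sq⟩ := Groth.Agent.S0591.result D c hc X (φ ≫ e.inv)
  let u₁ : S ⟶ D.obj i := e.inv ≫ c.π.app i
  have sq₁ : IsPullback v₁ φ fi u₁ :=
    IsPullback.of_iso sq (Iso.refl _) (Iso.refl _) e (Iso.refl _) (by simp) (by simp) (by simp) (by simp [u₁])
  have hqc : QuasiCompact u₁ := inferInstance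
  have hT : IsIntegral u₁.image := Groth.Agent.CycB.ImageInt.isIntegral_image u₁
  let ιT : u₁.image ⟶ D.obj i := u₁.imageι
  let u : S ⟶ u₁.image := u₁.toImage
  have hu : u ≫ ιT = u₁ := u₁.toImage_imageι
  have hud : IsDominant u := inferInstance
  have hTn : IsLocallyNoetherian u₁.image := LocallyOfFiniteType.isLocallyNoetherian ιT
  have hTc : CompactSpace u₁.image := QuasiCompact.compactSpace_of_compactSpace ιT
  have hTN : IsNoetherian u₁.image := {}
  have hft := (h2 i).2
  let a : u₁.image ⟶ Spec (CommRingCat.of (ULift.{u} ℤ)) := ιT ≫ Limits.IsTerminal.from specULiftZIsTerminal (D.obj i)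
  have ha : LocallyOfFiniteType a := inferInstance
  let φ₀ := pullback.snd fi ιT
  let v : X ⟶ pullback fi ιT := pullback.lift v₁ (φ ≫ u) (by rw [Category.assoc, hu, sq₁.w])
  have sq₂ : IsPullback v φ φ₀ u := by
    refine IsPullback.of_right (h₁₂ := pullback.fst fi ιT) (h₂₂ := ιT) (v₁₃ := fi) ?_ (pullback.lift_snd _ _ _)
      (IsPullback.of_hasPullback fi ιT)
    rw [pullback.lift_fst, hu]
    exact sq₁
  obtain ⟨S₀', _, g₀, hN, hg₀, hsol⟩ := noeth_case a φ₀ (geomRed_descend u (apply_genericPoint u) φ₀ fun K _ k hk =>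
    isReduced_of_sq sq₂ k (hη K k hk))
  obtain ⟨S', _, g, u', hg, hu', hcomm⟩ := GenEtAlt.pull u g₀ hg₀
  obtain ⟨_, hE⟩ := RSol.bc φ₀ u' g₀ (apply_genericPoint u') hsol
  rw [hcomm] at hE
  refine ⟨S', inferInstance, g, hg, ?_⟩
  have sq₃ := (IsPullback.of_hasPullback φ g).flip.paste_vert sq₂.flip
  exact etaRed_of_iso _ _ sq₃.flip.isoPullback.hom (by rw [IsPullback.isoPullback_hom_snd]) hE

end K264.Rfc
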