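import Groth.Agent.CAlg.K86.ValUnion
import Mathlib.RingTheory.Valuation.LocalSubring
import Mathlib.Order.Filter.AtTopBot.Basic
import Mathlib.Order.Filter.Ultrafilter.Basic
import Mathlib.FieldTheory.SeparableClosure

/-!
# Quasi-compactness of the Riemann–Zariski space, finiteness of the height

* `exists_finset_cover`: if every valuation subring `V` of `K` in a "patch closed" family (here: those
  containing a given subset `A`) is assigned a finite subset `φ V ⊆ V`, finitely many of these finite
  sets suffice: each `V` contains one of them;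
* `finite_primeSpectrum`: a valuation subring of an algebraic extension of a finitely generated field
  has finite spectrum.
-/

set_option autoImplicit false

namespace K264.Rfc

universe u v

open Filter

section RZ

variable {K : Type u} [Field K]

/-- The ultraproduct of a family of valuation subrings, intersected with `K`. -/
def ultraVal {ι : Type v} (𝓤 : Ultrafilter ι) (V : ι → ValuationSubring K) : ValuationSubring K where
  carrier := {x | ∀ᶠ i in (𝓤 : Filter ι), x ∈ V i}
  mul_mem' ha hb := by
    filter_upwards [ha, hb] with i h1 h2 using mul_mem h1 h2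
  one_mem' := by
    show ∀ᶠ i in (𝓤 : Filter ι), (1 : K) ∈ V i
    exact Eventually.of_forall fun i => one_mem _
  add_mem' ha hb := by
    filter_upwards [ha, hb] with i h1 h2 using add_mem h1 h2
  zero_mem' := by
    show ∀ᶠ i in (𝓤 : Filter ι), (0 : K) ∈ V i
    exact Eventually.of_forall fun i => zero_mem _
  neg_mem' ha := by
    filter_upwards [ha] with i h1 using neg_mem h1
  mem_or_inv_mem' x := by
    show (∀ᶠ i in (𝓤 : Filter ι), x ∈ V i) ∨ (∀ᶠ i in (𝓤 : Filter ι), x⁻¹ ∈ V i)
    rw [← Ultrafilter.eventually_or]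
    exact Eventually.of_forall fun i => (V i).mem_or_inv_mem x

theorem mem_ultraVal {ι : Type v} (𝓤 : Ultrafilter ι) (V : ι → ValuationSubring K) (x : K) :
    x ∈ ultraVal 𝓤 V ↔ ∀ᶠ i in (𝓤 : Filter ι), x ∈ V i := Iff.rfl

/-- **Quasi-compactness of the Riemann–Zariski space.** -/
theorem exists_finset_cover (A : Set K) (φ : ValuationSubring K → Finset K)
    (hφ : ∀ V : ValuationSubring K, A ⊆ V → (φ V : Set K) ⊆ V) :
    ∃ s : Finset (ValuationSubring K), (∀ W ∈ s, A ⊆ W) ∧
      ∀ V : ValuationSubring K, A ⊆ V → ∃ W ∈ s, (φ W : Set K) ⊆ V := by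
  classical
  by_contra hcon
  push Not at hcon
  have key : ∀ s : Finset {W : ValuationSubring K // A ⊆ W}, ∃ V : ValuationSubring K, A ⊆ V ∧
      ∀ W ∈ s, ¬ (φ W.1 : Set K) ⊆ V := by
    intro s
    obtain ⟨V, hV, h⟩ := hcon (s.image Subtype.val) (by
      intro W hW
      obtain ⟨W', -, rfl⟩ := Finset.mem_image.mp hW
      exact W'.2)
    exact ⟨V, hV, fun W hW => h W.1 (Finset.mem_image_of_mem _ hW)⟩
  choose V hAV hV using key
  have hne : (atTop : Filter (Finset {W : ValuationSubring K // A ⊆ W})).NeBot := inferInstance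
  let 𝓤 : Ultrafilter (Finset {W : ValuationSubring K // A ⊆ W}) := Ultrafilter.of atTop
  have h𝓤 : (𝓤 : Filter (Finset {W : ValuationSubring K // A ⊆ W})) ≤ atTop := Ultrafilter.of_le _
  let W₀ : ValuationSubring K := ultraVal 𝓤 V
  have hW₀ : A ⊆ W₀ := by
    intro a ha
    show a ∈ ultraVal 𝓤 V
    rw [mem_ultraVal]
    exact Eventually.of_forall fun s => hAV s ha
  have h1 : ∀ᶠ s in (𝓤 : Filter (Finset {W : ValuationSubring K // A ⊆ W})),
      (⟨W₀, hW₀⟩ : {W : ValuationSubring K // A ⊆ W}) ∈ s :=
    h𝓤 (eventually_ge_atTop {(⟨W₀, hW₀⟩ : {W : ValuationSubring K // A ⊆ W})} |>.mono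
      fun s hs => Finset.singleton_subset_iff.mp hs)
  have h2 : ∀ᶠ s in (𝓤 : Filter (Finset {W : ValuationSubring K // A ⊆ W})),
      ∀ x ∈ φ W₀, x ∈ V s := by
    rw [Filter.eventually_all_finset]
    intro x hx
    exact hφ W₀ hW₀ hx
  obtain ⟨s, hs1, hs2⟩ := (h1.and h2).exists
  exact hV s _ hs1 fun x hx => hs2 x hx

end RZ

/-- A valuation subring of an algebraic extension of a finitely generated field has finite
spectrum. -/
theorem finite_primeSpectrum {k K : Type u} [Field k] [Field K] [Algebra k K]
    [Algebra.IsAlgebraic k K] (S : Set k) (hS : S.Finite) (h : Subfield.closure S = ⊤)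
    (V : ValuationSubring K) : Finite (PrimeSpectrum V) := by
  have halg : Algebra.IsAlgebraic (Algebra.adjoin (⊥ : Subfield K) (algebraMap k K '' S)) K := by
    have hk : ∀ x : k, IsAlgebraic (Algebra.adjoin (⊥ : Subfield K) (algebraMap k K '' S))
        (algebraMap k K x) := by
      intro x
      have hx : x ∈ Subfield.closure S := by rw [h]; trivial
      rw [Subfield.mem_closure_iff] at hx
      obtain ⟨y, hy, z, hz, rfl⟩ := hx
      have hle : ∀ w ∈ Subring.closure S,
          algebraMap k K w ∈ Algebra.adjoin (⊥ : Subfield K) (algebraMap k K '' S) := by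
        intro w hw
        have : Subring.closure S ≤
            ((Algebra.adjoin (⊥ : Subfield K) (algebraMap k K '' S)).toSubring).comap
              (algebraMap k K) :=
          Subring.closure_le.mpr fun s hs => Algebra.subset_adjoin ⟨s, hs, rfl⟩
        exact this hw
      have h1 : IsAlgebraic (Algebra.adjoin (⊥ : Subfield K) (algebraMap k K '' S))
          (algebraMap k K y) :=
        isAlgebraic_algebraMap (⟨_, hle y hy⟩ :
          Algebra.adjoin (⊥ : Subfield K) (algebraMap k K '' S))
      have h2 : IsAlgebraic (Algebra.adjoin (⊥ : Subfield K) (algebraMap k K '' S))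
          (algebraMap k K z) :=
        isAlgebraic_algebraMap (⟨_, hle z hz⟩ :
          Algebra.adjoin (⊥ : Subfield K) (algebraMap k K '' S))
      rw [div_eq_mul_inv, map_mul, map_inv₀]
      exact h1.mul h2.inv
    let B := Algebra.adjoin (⊥ : Subfield K) (algebraMap k K '' S)
    let C : Subalgebra B K := Subalgebra.algebraicClosure B K
    let g : k →+* C := (algebraMap k K).codRestrict C.toSubring hk
    letI : Algebra k C := g.toAlgebra
    haveI : IsScalarTower k C K := IsScalarTower.of_algebraMap_eq fun x => rfl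
    haveI : Algebra.IsAlgebraic C K := Algebra.IsAlgebraic.extendScalars (R := k) (S := C) (A := K) (algebraMap k C).injective
    haveI : Algebra.IsAlgebraic B C := inferInstance
    exact Algebra.IsAlgebraic.trans B C K
  obtain ⟨t, hts, ht⟩ := exists_isTranscendenceBasis_subset (R := (⊥ : Subfield K))
    (algebraMap k K '' S)
  have hfin : t.Finite := (hS.image _).subset hts
  have h1 := ht.cardinalMk_eq_trdeg
  have h2 : Cardinal.mk t < Cardinal.aleph0 := hfin.lt_aleph0
  rw [h1] at h2
  obtain ⟨d, hd⟩ := Cardinal.lt_aleph0.mp h2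
  exact K86.ValUnion.finite_primeSpectrum_of_ringKrullDim_le (d + 1)
    (K86.ValDim.ringKrullDim_le V d hd)

end K264.Rfc
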