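import Groth.Agent.FlatMor.K264.Rfc.RZ
import Groth.Agent.FlatMor.K264.Rfc.Alt2
import Groth.Agent.S14898
import Groth.Agent.S2351
import Groth.Agent.CurvesC.NormNagata
import Groth.Agent.FlatMor.K263.GenFibre
import Groth.Agent.BMCoh.K876.NormIso

/-!
# From valuation rings to alterations

Let `S` be an integral scheme of finite type over a Noetherian Nagata ring and `Ω` a separable closure of
its function field.  If a property `Sol` of dominant `S`-schemes is stable under dominant base change, local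
on normal schemes, and holds for some model inside each valuation ring of `Ω` centred on `S`, then it
holds on some normal generically étale alteration of `S`.
-/

set_option autoImplicit false
universe u

open CategoryTheory AlgebraicGeometry Limits TopologicalSpace

namespace K264.Rfc

section

variable (S : Scheme.{u}) [IsIntegral S] (Ω : Type u) [Field Ω] [Algebra S.functionField Ω]

/-- The geometric generic point. -/
noncomputable def etaBar : Spec (CommRingCat.of Ω) ⟶ S :=
  Spec.map (CommRingCat.ofHom (algebraMap S.functionField Ω)) ≫ S.fromSpecStalk (genericPoint S)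

theorem etaBar_apply (x : Spec (CommRingCat.of Ω)) : etaBar S Ω x = genericPoint S := by
  rw [etaBar, Scheme.Hom.comp_apply, K263.GenFibre.apply_fromSpecStalk]

instance : IsDominant (etaBar S Ω) :=
  isDominant_of_mem _ (IsLocalRing.closedPoint Ω) (etaBar_apply S Ω _)

/-- Functions on an open as elements of `Ω`. -/
noncomputable def toOmega (U : S.Opens) (hU : genericPoint S ∈ U) : Γ(S, U) →+* Ω :=
  (algebraMap S.functionField Ω).comp (S.presheaf.germ U (genericPoint S) hU).hom

theorem specMap_toOmega (U : S.Opens) (hU : genericPoint S ∈ U) (hUa : IsAffineOpen U) :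
    Spec.map (CommRingCat.ofHom (toOmega S Ω U hU)) ≫ hUa.fromSpec = etaBar S Ω := by
  have h1 : CommRingCat.ofHom (toOmega S Ω U hU) = S.presheaf.germ U (genericPoint S) hU ≫
      CommRingCat.ofHom (algebraMap S.functionField Ω) := rfl
  rw [h1, Spec.map_comp, Category.assoc, etaBar, ← hUa.fromSpecStalk_eq_fromSpecStalk hU,
    IsAffineOpen.fromSpecStalk]
  rfl

/-- The model of `S` attached to a subring of `Ω`. -/
noncomputable def modelMap (U : S.Opens) (hU : genericPoint S ∈ U) (hUa : IsAffineOpen U) (B : Subring Ω)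
    (hB : (toOmega S Ω U hU).range ≤ B) : Spec (CommRingCat.of B) ⟶ S :=
  Spec.map (CommRingCat.ofHom ((toOmega S Ω U hU).codRestrict B fun x => hB ⟨x, rfl⟩)) ≫ hUa.fromSpec

theorem subtype_modelMap (U : S.Opens) (hU : genericPoint S ∈ U) (hUa : IsAffineOpen U) (B : Subring Ω)
    (hB : (toOmega S Ω U hU).range ≤ B) :
    Spec.map (CommRingCat.ofHom B.subtype) ≫ modelMap S Ω U hU hUa B hB = etaBar S Ω := by
  rw [modelMap, ← Spec.map_comp_assoc, ← specMap_toOmega S Ω U hU hUa]
  rfl

theorem inclusion_modelMap (U : S.Opens) (hU : genericPoint S ∈ U) (hUa : IsAffineOpen U) (B C : Subring Ω)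
    (hB : (toOmega S Ω U hU).range ≤ B) (hBC : B ≤ C) :
    Spec.map (CommRingCat.ofHom (Subring.inclusion hBC)) ≫ modelMap S Ω U hU hUa B hB =
      modelMap S Ω U hU hUa C (hB.trans hBC) := by
  rw [modelMap, ← Spec.map_comp_assoc, modelMap]
  rfl

end

theorem exists_val {X : Scheme.{u}} [IsIntegral X] {Ω : Type u} [Field Ω] (s : Spec (CommRingCat.of Ω) ⟶ X)
    (hs : s (IsLocalRing.closedPoint Ω) = genericPoint X) (x : X) :
    ∃ (V : ValuationSubring Ω) (c : Spec (CommRingCat.of V) ⟶ X),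
      Spec.map (CommRingCat.ofHom V.subtype) ≫ c = s ∧ c (IsLocalRing.closedPoint V) = x := by
  have hsp : s (IsLocalRing.closedPoint Ω) ⤳ x := by
    rw [hs]; exact genericPoint_specializes x
  let j : X.presheaf.stalk x ⟶ CommRingCat.of Ω := X.presheaf.stalkSpecializes hsp ≫ Scheme.stalkClosedPointTo s
  obtain ⟨V, hV⟩ := LocalSubring.exists_le_valuationSubring (LocalSubring.range j.hom)
  have hle : ∀ a, j.hom a ∈ V := fun a => hV.1 ⟨a, rfl⟩
  let f : X.presheaf.stalk x →+* V := j.hom.codRestrict V.toSubring hle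
  have hf : IsLocalHom f := by
    refine ⟨fun a ha => ?_⟩
    obtain ⟨hle', hloc⟩ := hV
    let jr : X.presheaf.stalk x →+* (LocalSubring.range j.hom).toSubring :=
      j.hom.codRestrict _ fun a => ⟨a, rfl⟩
    have h1 : IsUnit (Subring.inclusion hle' (jr a)) := ha
    have h2 : IsUnit (jr a) := hloc.map_nonunit _ h1
    have hsurj : Function.Surjective jr := by
      rintro ⟨y, a, rfl⟩
      exact ⟨a, rfl⟩
    have h3 : IsLocalHom jr := IsLocalHom.of_surjective _ hsurj
    exact h3.map_nonunit a h2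
  refine ⟨V, Spec.map (CommRingCat.ofHom f) ≫ X.fromSpecStalk x, ?_, ?_⟩
  · rw [← Spec.map_comp_assoc]
    have h1 : CommRingCat.ofHom f ≫ CommRingCat.ofHom V.subtype = j := rfl
    rw [h1, Spec.map_comp, Category.assoc, Scheme.SpecMap_stalkSpecializes_fromSpecStalk,
      Scheme.Spec_stalkClosedPointTo_fromSpecStalk]
  · rw [Scheme.Hom.comp_apply]
    have h2 : Spec.map (CommRingCat.ofHom f) (IsLocalRing.closedPoint V) = IsLocalRing.closedPoint _ :=
      IsLocalRing.comap_closedPoint f
    rw [h2, Scheme.fromSpecStalk_closedPoint]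

theorem exists_factor {S : Scheme.{u}} {V : Type u} [CommRing V] [IsLocalRing V] (c : Spec (CommRingCat.of V) ⟶ S)
    (U : S.Opens) (hUa : IsAffineOpen U) (hc : c (IsLocalRing.closedPoint V) ∈ U) :
    ∃ φ : Γ(S, U) ⟶ CommRingCat.of V, c = Spec.map φ ≫ hUa.fromSpec := by
  have h1 : Set.range c ⊆ Set.range hUa.fromSpec := by
    rintro _ ⟨y, rfl⟩
    rw [hUa.range_fromSpec]
    exact ((IsLocalRing.specializes_closedPoint y).map c.continuous).mem_open U.isOpen hc
  refine ⟨Spec.preimage (IsOpenImmersion.lift hUa.fromSpec c h1), ?_⟩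
  rw [Spec.map_preimage, IsOpenImmersion.lift_fac]

theorem finiteType_codRestrict {A Ω : Type u} [CommRing A] [Field Ω] (f : A →+* Ω) (F : Finset Ω)
    (B : Subring Ω) (hB : B = f.range ⊔ Subring.closure (F : Set Ω)) (h : ∀ x, f x ∈ B) :
    (f.codRestrict B h).FiniteType := by
  letI : Algebra A Ω := f.toAlgebra
  let C : Subalgebra A Ω := Algebra.adjoin A (F : Set Ω)
  have hC : C.toSubring = B := by
    rw [hB, Algebra.adjoin_eq_ring_closure, Subring.closure_union]
    congr 1
    exact Subring.closure_eq f.range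
  subst hC
  have h1 : Algebra.FiniteType A C := (Subalgebra.fg_iff_finiteType _).mp ⟨F, rfl⟩
  exact h1

/-- Properties of `S`-schemes to which the Riemann–Zariski argument applies. -/
structure SolProp (S : Scheme.{u}) [IsIntegral S] (Ω : Type u) [Field Ω] [Algebra S.functionField Ω]
    (Sol : ∀ (T : Scheme.{u}), (T ⟶ S) → Prop) : Prop where
  bc : ∀ {T T' : Scheme.{u}} [IsIntegral T] [IsIntegral T'] (t : T' ⟶ T) (g : T ⟶ S),
    IsDominant t → IsDominant g → Sol T g → Sol T' (t ≫ g)
  glue : ∀ {T : Scheme.{u}} [IsIntegral T] (_ : Pi1.IsNormalScheme T) (g : T ⟶ S), IsDominant g →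
    LocallyOfFiniteType g → QuasiCompact g → (∀ x : T, ∃ U : T.Opens, x ∈ U ∧ Sol U (U.ι ≫ g)) → Sol T g
  val : ∀ (U : S.Opens) (hU : genericPoint S ∈ U) (hUa : IsAffineOpen U) (V : ValuationSubring Ω),
    (toOmega S Ω U hU).range ≤ V.toSubring → ∃ F : Finset Ω, (F : Set Ω) ⊆ V ∧
      Sol _ (modelMap S Ω U hU hUa ((toOmega S Ω U hU).range ⊔ Subring.closure (F : Set Ω)) le_sup_left)

section Cover

variable {S : Scheme.{u}} [IsIntegral S] {Ω : Type u} [Field Ω] [Algebra S.functionField Ω]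

/-- The opens given by `S14898` cover. -/
theorem exists_mem_of_val {S' : Scheme.{u}} [IsIntegral S'] (s : Spec (CommRingCat.of Ω) ⟶ S') (q : S' ⟶ S)
    [IsSeparated q]
    (hs : s (IsLocalRing.closedPoint Ω) = genericPoint S') (hsq : s ≫ q = etaBar S Ω) {ι : Type u}
    (W : ι → S.Opens) (hW : ∀ i, genericPoint S ∈ W i) (hWa : ∀ i, IsAffineOpen (W i))
    (B : ι → Subring Ω) (hB : ∀ i, (toOmega S Ω (W i) (hW i)).range ≤ B i)
    (hcov : ∀ (y : S) (V : ValuationSubring Ω), (∀ (U : S.Opens) (hU : genericPoint S ∈ U) (_ : IsAffineOpen U),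
      y ∈ U → (toOmega S Ω U hU).range ≤ V.toSubring) → ∃ i, y ∈ W i ∧ B i ≤ V.toSubring)
    (O : ι → S'.Opens) (v : ∀ i, Spec (CommRingCat.of Ω) ⟶ (O i : Scheme.{u}))
    (r : ∀ i, (O i : Scheme.{u}) ⟶ Spec (CommRingCat.of (B i)))
    (h1 : ∀ i, v i ≫ (O i).ι = s) (h2 : ∀ i, IsProper (r i))
    (h3 : ∀ i, v i ≫ r i = Spec.map (CommRingCat.ofHom (B i).subtype))
    (h4 : ∀ i, r i ≫ modelMap S Ω (W i) (hW i) (hWa i) (B i) (hB i) = (O i).ι ≫ q) (x : S') :
    ∃ i, x ∈ O i := by
  obtain ⟨V, c, hc, hcx⟩ := exists_val s hs x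
  have key : ∀ (U : S.Opens) (hU : genericPoint S ∈ U) (hUa : IsAffineOpen U), q x ∈ U →
      ∃ h : (toOmega S Ω U hU).range ≤ V.toSubring, c ≫ q = modelMap S Ω U hU hUa V.toSubring h := by
    intro U hU hUa hxU
    obtain ⟨φ, hφ⟩ := exists_factor (V := V) (c ≫ q) U hUa (by
      rw [Scheme.Hom.comp_apply, hcx]; exact hxU)
    have e : CommRingCat.ofHom (toOmega S Ω U hU) = φ ≫ CommRingCat.ofHom V.subtype := by
      apply Spec.map_injective
      rw [← cancel_mono hUa.fromSpec, specMap_toOmega, Spec.map_comp, Category.assoc, ← hφ, ← Category.assoc,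
        hc, hsq]
    have e' : ∀ a, toOmega S Ω U hU a = (φ.hom a : Ω) := fun a => congr($(e).hom a)
    have hle : (toOmega S Ω U hU).range ≤ V.toSubring := by
      rintro _ ⟨a, rfl⟩
      rw [e' a]
      exact (φ.hom a).2
    refine ⟨hle, ?_⟩
    rw [hφ, modelMap]
    congr 2
    ext a
    exact (e' a).symm
  obtain ⟨i, hiW, hiB⟩ := hcov (q x) V fun U hU hUa hxU => (key U hU hUa hxU).1
  obtain ⟨hle, hcq⟩ := key (W i) (hW i) (hWa i) hiW
  let k : Spec (CommRingCat.of V) ⟶ Spec (CommRingCat.of (B i)) :=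
    Spec.map (CommRingCat.ofHom (Subring.inclusion hiB))
  have hk : k ≫ modelMap S Ω (W i) (hW i) (hWa i) (B i) (hB i) = c ≫ q := by
    rw [hcq]
    exact inclusion_modelMap S Ω (W i) (hW i) (hWa i) (B i) V.toSubring (hB i) hiB
  have hri := h2 i
  have hex : ValuativeCriterion.Existence (r i) := by
    have hu : (ValuativeCriterion.Existence ⊓ @QuasiCompact : MorphismProperty Scheme.{u}) (r i) := by
      rw [← UniversallyClosed.eq_valuativeCriterion]
      infer_instance
    exact hu.1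
  let sq : ValuativeCommSq (r i) :=
    { R := V
      K := Ω
      i₁ := v i
      i₂ := k
      commSq := ⟨by
        rw [h3 i, ← Spec.map_comp]
        rfl⟩ }
  obtain ⟨l, hl1, hl2⟩ := (hex sq).exists_lift
  have hl1' : Spec.map (CommRingCat.ofHom V.subtype) ≫ l = v i := hl1
  have hl2' : l ≫ r i = k := hl2
  have e1 : l ≫ (O i).ι = c := by
    let sq2 : ValuativeCommSq q :=
      { R := V
        K := Ω
        i₁ := s
        i₂ := c ≫ q
        commSq := ⟨by
          have h5 : Spec.map (CommRingCat.ofHom V.subtype) ≫ c ≫ q = s ≫ q := by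
            rw [← Category.assoc, hc]
          exact h5.symm⟩ }
    have hsub : Subsingleton sq2.commSq.LiftStruct := IsSeparated.valuativeCriterion q sq2
    let l1 : sq2.commSq.LiftStruct := ⟨c, hc, rfl⟩
    let l2 : sq2.commSq.LiftStruct := ⟨l ≫ (O i).ι, by
      have h5 : Spec.map (CommRingCat.ofHom V.subtype) ≫ l ≫ (O i).ι = s := by
        rw [← Category.assoc, hl1', h1]
      exact h5, by
      have h5 : (l ≫ (O i).ι) ≫ q = c ≫ q := by
        rw [Category.assoc, ← h4 i, ← Category.assoc, hl2', hk]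
      exact h5⟩
    exact congrArg CommSq.LiftStruct.l (hsub.elim l2 l1)
  refine ⟨i, ?_⟩
  rw [← hcx, ← e1, Scheme.Hom.comp_apply]
  exact (l (IsLocalRing.closedPoint V)).2

end Cover

section Model

variable (S : Scheme.{u}) [IsIntegral S] (Ω : Type u) [Field Ω] [Algebra S.functionField Ω]

theorem isDominant_modelMap (U : S.Opens) (hU : genericPoint S ∈ U) (hUa : IsAffineOpen U) (B : Subring Ω)
    (hB : (toOmega S Ω U hU).range ≤ B) : IsDominant (modelMap S Ω U hU hUa B hB) := by
  refine isDominant_of_mem _ (Spec.map (CommRingCat.ofHom B.subtype) (IsLocalRing.closedPoint Ω)) ?_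
  rw [← Scheme.Hom.comp_apply, subtype_modelMap, etaBar_apply]

theorem isSeparated_modelMap (U : S.Opens) (hU : genericPoint S ∈ U) (hUa : IsAffineOpen U) (B : Subring Ω)
    (hB : (toOmega S Ω U hU).range ≤ B) : IsSeparated (modelMap S Ω U hU hUa B hB) := by
  unfold modelMap
  infer_instance

theorem quasiCompact_modelMap [QuasiSeparatedSpace S] (U : S.Opens) (hU : genericPoint S ∈ U)
    (hUa : IsAffineOpen U) (B : Subring Ω)
    (hB : (toOmega S Ω U hU).range ≤ B) : QuasiCompact (modelMap S Ω U hU hUa B hB) := by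
  infer_instance

theorem locallyOfFiniteType_modelMap (U : S.Opens) (hU : genericPoint S ∈ U) (hUa : IsAffineOpen U)
    (F : Finset Ω) : LocallyOfFiniteType (modelMap S Ω U hU hUa ((toOmega S Ω U hU).range ⊔
      Subring.closure (F : Set Ω)) le_sup_left) := by
  unfold modelMap
  have h1 : LocallyOfFiniteType (Spec.map (CommRingCat.ofHom ((toOmega S Ω U hU).codRestrict
      ((toOmega S Ω U hU).range ⊔ Subring.closure (F : Set Ω)) fun x =>
        (le_sup_left : (toOmega S Ω U hU).range ≤ _) ⟨x, rfl⟩))) := by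
    rw [HasRingHomProperty.Spec_iff (P := @LocallyOfFiniteType)]
    exact finiteType_codRestrict _ F _ rfl _
  exact MorphismProperty.comp_mem @LocallyOfFiniteType _ _ h1 inferInstance

end Model

theorem isSchDom_of_subtype {Ω : Type u} [Field Ω] (B : Subring Ω) :
    IsSchemeTheoreticallyDominant (Spec.map (CommRingCat.ofHom B.subtype)) := by
  have h : IsDominant (Spec.map (CommRingCat.ofHom B.subtype)) := by
    refine ⟨?_⟩
    show DenseRange (PrimeSpectrum.comap B.subtype)
    rw [PrimeSpectrum.denseRange_comap_iff_ker_le_nilRadical]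
    rw [(RingHom.injective_iff_ker_eq_bot _).mp B.subtype_injective]
    exact bot_le
  exact .of_isDominant _

theorem GenEtAlt.comp_of_isIso {N S' S : Scheme.{u}} (n : N ⟶ S') (q : S' ⟶ S) [IsIntegral N] [IsFinite n]
    [IsDominant n] (hq : GenEtAlt q) (O : S'.Opens) (hO : (O : Set S').Nonempty) (hn : IsIso (n ∣_ O)) :
    GenEtAlt (n ≫ q) := by
  obtain ⟨⟨hqp, hS', hS, hqd, V, hV, hVf⟩, V', hV', hVe⟩ := hq
  have hηV : genericPoint S ∈ V := (genericPoint_spec S).mem_open_set_iff V.isOpen |>.mpr (by simpa using hV)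
  have hηV' : genericPoint S ∈ V' := (genericPoint_spec S).mem_open_set_iff V'.isOpen |>.mpr (by simpa using hV')
  have hηO : genericPoint S' ∈ O := (genericPoint_spec S').mem_open_set_iff O.isOpen |>.mpr (by simpa using hO)
  obtain ⟨Z, hηZ, hZ⟩ := exists_nhd_of_isClosedMap q O (genericPoint S) (fun x hx => by
    have h1 : genericPoint S' = x := by
      refine fibre_discrete q V (genericPoint_specializes x) ?_ ?_
      · rw [apply_genericPoint q, hx]
      · rw [apply_genericPoint q]; exact hηV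
    rw [← h1]; exact hηO)
  refine ⟨⟨inferInstance, inferInstance, inferInstance, inferInstance, V, hV, ?_⟩, V' ⊓ Z, ⟨_, hηV', hηZ⟩, ?_⟩
  · have e : (n ≫ q) ∣_ V = (n ∣_ (q ⁻¹ᵁ V)) ≫ (q ∣_ V) := morphismRestrict_comp n q V
    rw [e]
    have h0 : IsFinite (n ∣_ (q ⁻¹ᵁ V)) := IsZariskiLocalAtTarget.restrict (P := @IsFinite) inferInstance _
    exact MorphismProperty.comp_mem @IsFinite _ _ h0 hVf
  · have e : (n ≫ q) ∣_ (V' ⊓ Z) = (n ∣_ (q ⁻¹ᵁ (V' ⊓ Z))) ≫ (q ∣_ (V' ⊓ Z)) := morphismRestrict_comp n q _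
    have h1 : Etale (q ∣_ (V' ⊓ Z)) := etale_restrict_of_le q inf_le_left hVe
    have h2 : Etale (n ∣_ (q ⁻¹ᵁ (V' ⊓ Z))) := by
      have h3 : Etale (n ∣_ O) := inferInstance
      exact etale_restrict_of_le n (fun x hx => hZ hx.2) h3
    rw [e]
    exact MorphismProperty.comp_mem @Etale _ _ h2 h1

/-- The extension of function fields is separable if the source is dominated by a separable closure. -/
theorem isSeparable_of_lift {S S' : Scheme.{u}} [IsIntegral S] [IsIntegral S'] (q : S' ⟶ S)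
    (e : q (genericPoint S') = genericPoint S) (Ω : Type u) [Field Ω] [Algebra S.functionField Ω]
    [Algebra.IsSeparable S.functionField Ω] (s : Spec (CommRingCat.of Ω) ⟶ S')
    (hs : s (IsLocalRing.closedPoint Ω) = genericPoint S') (hsq : s ≫ q = etaBar S Ω) :
    @Algebra.IsSeparable S.functionField S'.functionField _ _ (K425.GenEtale.ffMap q e).toAlgebra := by
  -- the homomorphism of fields
  obtain ⟨j, hj⟩ : ∃ j : S'.functionField ⟶ CommRingCat.of Ω,
      Spec.map j ≫ S'.fromSpecStalk (genericPoint S') = s := by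
    refine ⟨S'.presheaf.stalkSpecializes (specializes_of_eq hs) ≫ Scheme.stalkClosedPointTo s, ?_⟩
    rw [Spec.map_comp, Category.assoc, Scheme.SpecMap_stalkSpecializes_fromSpecStalk,
      Scheme.Spec_stalkClosedPointTo_fromSpecStalk]
  have key : j.hom.comp (K425.GenEtale.ffMap q e) = algebraMap S.functionField Ω := by
    have h1 : (S.presheaf.stalkSpecializes (specializes_of_eq e) ≫ q.stalkMap (genericPoint S')) ≫ j =
        CommRingCat.ofHom (algebraMap S.functionField Ω) := by
      apply Spec.map_injective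
      rw [← cancel_mono (S.fromSpecStalk (genericPoint S))]
      rw [Spec.map_comp, Spec.map_comp, Category.assoc, Category.assoc,
        Scheme.SpecMap_stalkSpecializes_fromSpecStalk, Scheme.SpecMap_stalkMap_fromSpecStalk,
        ← Category.assoc, hj, hsq, etaBar]
    exact congrArg CommRingCat.Hom.hom h1
  let _ := (K425.GenEtale.ffMap q e).toAlgebra
  let _ := j.hom.toAlgebra
  have : IsScalarTower S.functionField S'.functionField Ω := IsScalarTower.of_algebraMap_eq' key.symm
  exact Algebra.isSeparable_tower_bot_of_isSeparable S.functionField S'.functionField Ω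

/-- **From valuation rings to generically étale alterations.** -/
theorem exists_alteration (S : Scheme.{u}) [IsIntegral S] [IsNoetherian S] {A : Type u} [CommRing A]
    (hA : CAlg.IsNagata A) (a : S ⟶ Spec (CommRingCat.of A)) [LocallyOfFiniteType a]
    (Ω : Type u) [Field Ω] [Algebra S.functionField Ω] [Algebra.IsSeparable S.functionField Ω]
    {Sol : ∀ (T : Scheme.{u}), (T ⟶ S) → Prop} (P : SolProp S Ω Sol) :
    ∃ (S' : Scheme.{u}) (_ : IsIntegral S') (g : S' ⟶ S), Pi1.IsNormalScheme S' ∧ GenEtAlt g ∧ Sol S' g := by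
  classical
  -- affine cover
  have hex : ∀ y : S, ∃ U : S.Opens, IsAffineOpen U ∧ y ∈ U ∧ genericPoint S ∈ U := by
    intro y
    obtain ⟨U, hU, hyU, -⟩ := exists_isAffineOpen_mem_and_subset (X := S) (x := y) (U := ⊤) trivial
    refine ⟨U, hU, hyU, ?_⟩
    exact (genericPoint_spec S).mem_open_set_iff U.isOpen |>.mpr (by simpa using ⟨y, hyU⟩)
  choose U hUa hyU hηU using hex
  obtain ⟨t, ht⟩ := CompactSpace.elim_nhds_subcover (fun y : S => (U y : Set S))
    (fun y => (U y).isOpen.mem_nhds (hyU y))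
  -- finite sets for valuation rings
  have hF : ∀ (y : S) (V : ValuationSubring Ω), ∃ F : Finset Ω,
      (toOmega S Ω (U y) (hηU y)).range ≤ V.toSubring → (F : Set Ω) ⊆ V ∧
      Sol _ (modelMap S Ω (U y) (hηU y) (hUa y)
        ((toOmega S Ω (U y) (hηU y)).range ⊔ Subring.closure (F : Set Ω)) le_sup_left) := by
    intro y V
    by_cases h : (toOmega S Ω (U y) (hηU y)).range ≤ V.toSubring
    · obtain ⟨F, hF⟩ := P.val (U y) (hηU y) (hUa y) V h
      exact ⟨F, fun _ => hF⟩
    · exact ⟨∅, fun h' => absurd h' h⟩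
  choose F hF using hF
  have hs : ∀ y : S, ∃ s : Finset (ValuationSubring Ω),
      (∀ W ∈ s, ((toOmega S Ω (U y) (hηU y)).range : Set Ω) ⊆ W) ∧
      ∀ V : ValuationSubring Ω, ((toOmega S Ω (U y) (hηU y)).range : Set Ω) ⊆ V → ∃ W ∈ s, (F y W : Set Ω) ⊆ V :=
    fun y => exists_finset_cover _ (F y) fun V hV => (hF y V hV).1
  choose s hs1 hs2 using hs
  let ι : Type u := (y : {y : S // y ∈ t}) × {W : ValuationSubring Ω // W ∈ s y.1}
  have hfinι : Finite ι := inferInstance
  let Wi : ι → S.Opens := fun i => U i.1.1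
  let Bi : ι → Subring Ω := fun i => (toOmega S Ω (Wi i) (hηU i.1.1)).range ⊔
    Subring.closure (F i.1.1 i.2.1 : Set Ω)
  have hBi : ∀ i, (toOmega S Ω (Wi i) (hηU i.1.1)).range ≤ Bi i := fun i => le_sup_left
  let p : ∀ i, Spec (CommRingCat.of (Bi i)) ⟶ S := fun i =>
    modelMap S Ω (Wi i) (hηU i.1.1) (hUa i.1.1) (Bi i) (hBi i)
  have hSol : ∀ i, Sol _ (p i) := fun i => (hF i.1.1 i.2.1 (hs1 i.1.1 i.2.1 i.2.2)).2
  let t' : ∀ i, Spec (CommRingCat.of Ω) ⟶ Spec (CommRingCat.of (Bi i)) := fun i =>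
    Spec.map (CommRingCat.ofHom (Bi i).subtype)
  have i1 : ∀ i, IsSchemeTheoreticallyDominant (t' i) := fun i => isSchDom_of_subtype (Bi i)
  have i2 : ∀ i, IsSeparated (p i) := fun i => isSeparated_modelMap S Ω _ _ _ _ _
  have i3 : ∀ i, LocallyOfFiniteType (p i) := fun i => locallyOfFiniteType_modelMap S Ω _ _ _ _
  have i4 : ∀ i, QuasiCompact (p i) := fun i => quasiCompact_modelMap S Ω _ _ _ _ _
  have i5 : ∀ i, t' i ≫ p i = etaBar S Ω := fun i => subtype_modelMap S Ω _ _ _ _ _
  obtain ⟨S', σ, q, hσ, hq, hσq, H⟩ := Groth.Agent.S14898.result Ω (etaBar S Ω)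
    (fun i => Spec (CommRingCat.of (Bi i))) t' p i5
  choose O v r hv hr hvr hrp using H
  have hS' : IsIntegral S' := K263.IsoDescend.isIntegral_of_dominant σ
  have hσg : σ (IsLocalRing.closedPoint Ω) = genericPoint S' := by
    have h1 := apply_genericPoint σ
    rw [← h1]
    congr 1
    exact Subsingleton.elim (α := PrimeSpectrum Ω) _ _
  have hqg : q (genericPoint S') = genericPoint S := by
    rw [← hσg, ← Scheme.Hom.comp_apply, hσq, etaBar_apply]
  have hqd : IsDominant q := isDominant_of_mem q _ hqg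
  have hqAlt : GenEtAlt q := genEtAlt_of_separable q hqg (isSeparable_of_lift q hqg Ω σ hσg hσq)
  have hcov : ∀ x : S', ∃ i, x ∈ O i := by
    intro x
    refine exists_mem_of_val σ q hσg hσq Wi (fun i => hηU i.1.1) (fun i => hUa i.1.1) Bi hBi ?_ O v r hv hr
      hvr hrp x
    intro y V hV
    have hyt : y ∈ ⋃ x ∈ t, (U x : Set S) := by rw [ht]; trivial
    simp only [Set.mem_iUnion] at hyt
    obtain ⟨x, hx, hyx⟩ := hyt
    have h1 := hV (U x) (hηU x) (hUa x) hyx
    obtain ⟨W, hW, hFW⟩ := hs2 x V h1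
    refine ⟨⟨⟨x, hx⟩, ⟨W, hW⟩⟩, hyx, sup_le h1 ?_⟩
    rw [Subring.closure_le]
    exact hFW
  -- normalization
  have hqc := K263.GenFibre.quasiCompact_fromSpecStalk S'
  obtain ⟨hN, hnorm, hnsurj, hngen, -⟩ := Groth.Agent.S2351.result S'
  let n := Curv2.normalizationι S'
  have hnfin : IsFinite n := Groth.Agent.CurvesC.NormNagata.isFinite_normalizationι A hA S' (q ≫ a)
  have hndom : IsDominant n := isDominant_of_mem n _ hngen
  obtain ⟨O₀, hO₀, hiso⟩ := K876.NormIso.exists_isIso S'
  have hAlt : GenEtAlt (n ≫ q) := GenEtAlt.comp_of_isIso n q hqAlt O₀ hO₀ hiso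
  refine ⟨Curv2.normalization S', hN, n ≫ q, hnorm, hAlt, ?_⟩
  refine P.glue hnorm (n ≫ q) inferInstance inferInstance inferInstance fun y => ?_
  obtain ⟨i, hi⟩ := hcov (n y)
  refine ⟨n ⁻¹ᵁ O i, hi, ?_⟩
  have hne : Nonempty (O i) := ⟨⟨_, hi⟩⟩
  have hne' : Nonempty (n ⁻¹ᵁ O i) := ⟨⟨y, hi⟩⟩
  have hintO : IsIntegral (O i).toScheme := inferInstance
  have hintO' : IsIntegral (n ⁻¹ᵁ O i).toScheme := inferInstance
  have hns : Surjective (n ∣_ O i) := IsZariskiLocalAtTarget.restrict (P := @Surjective) hnsurj _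
  have hrd : IsDominant (r i) := by
    refine isDominant_of_mem (r i) (v i (IsLocalRing.closedPoint Ω)) ?_
    rw [← Scheme.Hom.comp_apply, hvr i]
    have h1 := apply_genericPoint (t' i)
    rw [← h1]
    congr 1
    exact Subsingleton.elim (α := PrimeSpectrum Ω) _ _
  have hd1 : IsDominant ((n ∣_ O i) ≫ r i) := inferInstance
  have hd2 : IsDominant (p i) := isDominant_modelMap S Ω _ _ _ _ _
  have h2 := P.bc ((n ∣_ O i) ≫ r i) (p i) hd1 hd2 (hSol i)
  have e : (n ⁻¹ᵁ O i).ι ≫ n ≫ q = ((n ∣_ O i) ≫ r i) ≫ p i := by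
    rw [Category.assoc, hrp i, morphismRestrict_ι_assoc]
  rw [e]
  exact h2

end K264.Rfc
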