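import Groth.Agent.FlatMor.K264.Rfc.DescEta
import Groth.Agent.FlatMor.K264.Rfc.AffS
import Groth.Agent.FlatMor.K264.Rfc.RZMain
import Groth.Agent.Lim8.K115.RelFG

/-!
# The reduced fibre theorem as a Riemann–Zariski local problem
-/

set_option autoImplicit false
universe u

open CategoryTheory AlgebraicGeometry Limits TopologicalSpace Topology

namespace K264.Rfc

open K263.EtaRed

variable {S X₀ : Scheme.{u}} (φ₀ : X₀ ⟶ S)

/-- Solutions of the reduced fibre problem. -/
def RSol (T : Scheme.{u}) (g : T ⟶ S) : Prop :=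
  ∃ _ : IsIntegral T, EtaRed (pullback.snd φ₀ g)

theorem etaRed_of_iso {S X Y : Scheme.{u}} [IsIntegral S] (φ : X ⟶ S) (φ' : Y ⟶ S) (e : Y ⟶ X) [IsIso e]
    (he : e ≫ φ = φ') (h : EtaRed φ) : EtaRed φ' := by
  subst he
  exact precomp φ e h

theorem RSol.bc {T T' : Scheme.{u}} [IsIntegral T] [IsIntegral T'] (t : T' ⟶ T) (g : T ⟶ S)
    (ht : t (genericPoint T') = genericPoint T) (h : RSol φ₀ T g) : RSol φ₀ T' (t ≫ g) := by
  obtain ⟨_, h⟩ := h
  refine ⟨inferInstance, ?_⟩
  have h1 := baseChange (pullback.snd φ₀ g) t ht h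
  have sq := (IsPullback.of_hasPullback (pullback.snd φ₀ g) t).flip.paste_vert
    (IsPullback.of_hasPullback φ₀ g).flip
  exact etaRed_of_iso _ _ sq.flip.isoPullback.inv (by rw [IsPullback.isoPullback_inv_snd]) h1

theorem RSol.glue {T : Scheme.{u}} [IsIntegral T] (hT : Pi1.IsNormalScheme T) (g : T ⟶ S)
    (h : ∀ x : T, ∃ U : T.Opens, x ∈ U ∧ RSol φ₀ U (U.ι ≫ g)) : RSol φ₀ T g := by
  choose U hxU hU using h
  refine ⟨inferInstance, ?_⟩
  have hcov : IsOpenCover U := by
    rw [IsOpenCover, eq_top_iff]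
    intro x _
    exact Opens.mem_iSup.2 ⟨x, hxU x⟩
  refine of_openCover hT (pullback.snd φ₀ g)
    ((T.openCoverOfIsOpenCover U hcov).pullback₁ (pullback.snd φ₀ g)) fun x => ?_
  obtain ⟨h0, h1⟩ := hU x
  change EtaRed (pullback.fst (pullback.snd φ₀ g) (U x).ι ≫ pullback.snd φ₀ g)
  rw [pullback.condition]
  have h2 : EtaRed (pullback.snd (pullback.snd φ₀ g) (U x).ι) := by
    have sq := (IsPullback.of_hasPullback (pullback.snd φ₀ g) (U x).ι).flip.paste_vert
      (IsPullback.of_hasPullback φ₀ g).flip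
    exact etaRed_of_iso _ _ sq.flip.isoPullback.hom (by rw [IsPullback.isoPullback_hom_snd]) h1
  exact of_isOpenImmersion _ _ h2

theorem isDominant_SpecMap_of_injective {A B : CommRingCat.{u}} (f : A ⟶ B) (hf : Function.Injective f) :
    IsDominant (Spec.map f) := by
  refine ⟨?_⟩
  exact (PrimeSpectrum.denseRange_comap_iff_ker_le_nilRadical f.hom).2 (by
    rw [(RingHom.injective_iff_ker_eq_bot f.hom).1 hf]; exact bot_le)

section Val

variable [IsIntegral S] [QuasiCompact φ₀] [QuasiSeparated φ₀] [LocallyOfFinitePresentation φ₀]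

open K115.RelFG

theorem exists_fg {R V : Type u} [CommRing R] [CommRing V] [IsDomain V] [Algebra R V]
    (p₀ : Spec (CommRingCat.of R) ⟶ S)
    (h : EtaRed (pullback.snd φ₀ (Spec.map (CommRingCat.ofHom (algebraMap R V)) ≫ p₀))) :
    ∃ (F : Finset V), RSol φ₀ _ (Spec.map (CommRingCat.ofHom (algebraMap R (Algebra.adjoin R (F : Set V)))) ≫ p₀) := by
  have i1 : ∀ j : (FGSub R V)ᵒᵖ, IsIntegral ((specDiagram R V).obj j) := fun j =>
    inferInstanceAs (IsIntegral (Spec (CommRingCat.of j.unop.1)))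
  have i2 : IsIntegral (specCone R V).pt := inferInstanceAs (IsIntegral (Spec (CommRingCat.of V)))
  let t : ∀ j : (FGSub R V)ᵒᵖ, (specDiagram R V).obj j ⟶ S := fun j =>
    Spec.map (CommRingCat.ofHom (algebraMap R j.unop.1)) ≫ p₀
  obtain ⟨j, hj⟩ := descend_etaRed (specDiagram R V) (specCone R V) (isLimitSpecCone R V) t (by
      intro i j f
      change Spec.map _ ≫ Spec.map _ ≫ p₀ = Spec.map _ ≫ p₀
      rw [← Spec.map_comp_assoc]
      rfl) φ₀ (Spec.map (CommRingCat.ofHom (algebraMap R V)) ≫ p₀) (by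
      intro j
      change Spec.map _ ≫ Spec.map _ ≫ p₀ = Spec.map _ ≫ p₀
      rw [← Spec.map_comp_assoc]
      rfl) (by
      intro j
      have : IsDominant ((specCone R V).π.app j) :=
        isDominant_SpecMap_of_injective _ (Subtype.val_injective)
      exact apply_genericPoint (X := (specCone R V).pt) ((specCone R V).π.app j)) h
  obtain ⟨F, hF⟩ := j.unop.2
  refine ⟨F, ?_⟩
  rw [hF]
  exact ⟨i1 j, hj⟩

theorem isReduced_snd {K : Type u} [Field K] {T : Scheme.{u}} (p : T ⟶ S) (k : Spec (CommRingCat.of K) ⟶ T)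
    (h : IsReduced (pullback φ₀ (k ≫ p))) : IsReduced (pullback (pullback.snd φ₀ p) k) := by
  have sq := (IsPullback.of_hasPullback (pullback.snd φ₀ p) k).flip.paste_vert
    (IsPullback.of_hasPullback φ₀ p).flip
  exact isReduced_of_isOpenImmersion sq.flip.isoPullback.hom

variable (hη : ∀ (K : Type u) [Field K] (k : Spec (CommRingCat.of K) ⟶ S),
      Set.range k = {genericPoint S} → IsReduced (pullback φ₀ k))

include hη in
theorem RSol.val (Ω : Type u) [Field Ω] [IsSepClosed Ω] [Algebra S.functionField Ω]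
    (U : S.Opens) (hU : genericPoint S ∈ U) (hUa : IsAffineOpen U) (V : ValuationSubring Ω)
    (hfin : Finite (PrimeSpectrum V)) (hle : (toOmega S Ω U hU).range ≤ V.toSubring) :
    ∃ F : Finset Ω, (F : Set Ω) ⊆ V ∧
      RSol φ₀ _ (modelMap S Ω U hU hUa ((toOmega S Ω U hU).range ⊔ Subring.closure (F : Set Ω)) le_sup_left) := by
  let θ : Γ(S, U) →+* V := (toOmega S Ω U hU).codRestrict V.toSubring fun x => hle ⟨x, rfl⟩
  let _ : Algebra Γ(S, U) V := θ.toAlgebra
  let _ : Algebra Γ(S, U) Ω := (toOmega S Ω U hU).toAlgebra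
  have : IsScalarTower Γ(S, U) V Ω := IsScalarTower.of_algebraMap_eq fun _ => rfl
  have hsc : IsSepClosed (FractionRing V) :=
    isSepClosed_of_ringEquiv (FractionRing.algEquiv V Ω).symm.toRingEquiv
  let p : Spec (CommRingCat.of V) ⟶ S := Spec.map (CommRingCat.ofHom (algebraMap Γ(S, U) V)) ≫ hUa.fromSpec
  have hpd : IsDominant p := isDominant_modelMap S Ω U hU hUa V.toSubring hle
  have hE : EtaRed (pullback.snd φ₀ p) := by
    refine etaRed_Spec V _ fun K _ k hk => isReduced_snd φ₀ p k (hη K _ ?_)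
    rw [Scheme.Hom.comp_base, TopCat.coe_comp, Set.range_comp, hk, Set.image_singleton,
      apply_genericPoint p]
  obtain ⟨F₀, hF₀⟩ := exists_fg φ₀ (R := Γ(S, U)) (V := V) hUa.fromSpec hE
  classical
  let F : Finset Ω := F₀.image V.subtype
  refine ⟨F, ?_, ?_⟩
  · intro x hx
    simp only [F, Finset.coe_image, Set.mem_image] at hx
    obtain ⟨y, -, rfl⟩ := hx
    exact y.2
  · set B : Subring Ω := (toOmega S Ω U hU).range ⊔ Subring.closure (F : Set Ω) with hB
    have hmem : ∀ x ∈ Algebra.adjoin Γ(S, U) (F₀ : Set V), (x : Ω) ∈ B := by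
      intro x hx
      induction hx using Algebra.adjoin_induction with
      | mem x hx =>
        refine (le_sup_right : Subring.closure (F : Set Ω) ≤ B) (Subring.subset_closure ?_)
        simp only [F, Finset.coe_image]
        exact ⟨x, hx, rfl⟩
      | algebraMap r => exact (le_sup_left : (toOmega S Ω U hU).range ≤ B) ⟨r, rfl⟩
      | add x y _ _ hx hy => exact B.add_mem hx hy
      | mul x y _ _ hx hy => exact B.mul_mem hx hy
    let δ : Algebra.adjoin Γ(S, U) (F₀ : Set V) →+* B :=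
      (V.subtype.comp (Algebra.adjoin Γ(S, U) (F₀ : Set V)).val.toRingHom).codRestrict B fun x => hmem x.1 x.2
    have hδ : Function.Injective δ := fun x y hxy => by
      have h1 : ((δ x : B) : Ω) = ((δ y : B) : Ω) := congrArg (fun b : B => (b : Ω)) hxy
      have h2 : (x.1 : Ω) = (y.1 : Ω) := h1
      exact Subtype.ext (Subtype.ext h2)
    have hd : IsDominant (Spec.map (CommRingCat.ofHom δ)) := isDominant_SpecMap_of_injective _ hδ
    have h1 := RSol.bc φ₀ (Spec.map (CommRingCat.ofHom δ)) _ (apply_genericPoint _) hF₀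
    rw [← Spec.map_comp_assoc] at h1
    exact h1

include hη in
theorem solProp (Ω : Type u) [Field Ω] [IsSepClosed Ω] [Algebra S.functionField Ω]
    (hfin : ∀ V : ValuationSubring Ω, Finite (PrimeSpectrum V)) : SolProp S Ω (RSol φ₀) where
  bc t g ht hg h := by
    have := apply_genericPoint t
    exact RSol.bc φ₀ t g this h
  glue hT g _ _ _ h := RSol.glue φ₀ hT g h
  val U hU hUa V hle := RSol.val φ₀ hη Ω U hU hUa V (hfin V) hle

end Val

end K264.Rfc
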